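import Groth.Agent.H6RP.Gen
import Groth.Agent.AmpleFamGen.Basic
import Groth.Prelude.Def_KSix

/-!
# The generating class of an ample family
-/

set_option autoImplicit false
set_option linter.style.haveILetI false
set_option backward.isDefEq.respectTransparency false
set_option backward.isDefEq.respectTransparency.types false

universe u

open CategoryTheory CategoryTheory.Limits AlgebraicGeometry

noncomputable section

namespace Groth.Agent.H6RP

open Groth.Agent

attribute [local instance] CategoryTheory.Abelian.hasFiniteBiproducts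

variable {X : Scheme.{u}} {ι : Type u} (L : ι → X.Modules)

/-- Finite sums of invertible modules which are negative powers of members of the family. -/
def addLInv : ObjectProperty X.Modules := fun M =>
  ∃ (k : ℕ) (N : Fin k → X.Modules), (∀ j, PicF.IsInvertible (N j) ∧ KSix.IsNegPower L (N j)) ∧
    Nonempty (M ≅ ⨁ N)

theorem inAddL_of_addLInv {M : X.Modules} (h : addLInv L M) : KSix.InAddL L M := by
  obtain ⟨k, N, hN, e⟩ := h
  exact ⟨k, N, fun j => (hN j).2, e⟩

/-- A binary sum of finite sums, indexed by a disjoint union. -/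
def biprodBiproductIso {k l : ℕ} (N : Fin k → X.Modules) (N' : Fin l → X.Modules) :
    (⨁ N) ⊞ (⨁ N') ≅ ⨁ (Sum.elim N N') where
  hom := biprod.desc (biproduct.desc fun j => biproduct.ι (Sum.elim N N') (.inl j))
    (biproduct.desc fun j => biproduct.ι (Sum.elim N N') (.inr j))
  inv := biproduct.desc fun s => Sum.rec (motive := fun s => Sum.elim N N' s ⟶ (⨁ N) ⊞ (⨁ N'))
    (fun j => biproduct.ι N j ≫ biprod.inl) (fun j => biproduct.ι N' j ≫ biprod.inr) s
  hom_inv_id := by
    refine biprod.hom_ext' _ _ (biproduct.hom_ext' _ _ fun j => ?_) (biproduct.hom_ext' _ _ fun j => ?_) <;> simp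
  inv_hom_id := biproduct.hom_ext' _ _ fun s => by cases s <;> simp

theorem genClass_addL (hL : KSix.IsAmpleFamily L) : GenClass (addLInv L) where
  flf M hM := by
    obtain ⟨k, N, hN, ⟨e⟩⟩ := hM
    exact H23.PullPush.isFinLocFree_of_iso e.symm (AmpleFamGen.isFinLocFree_biproduct N fun j => (hN j).1)
  iso {M M'} e hM := by
    obtain ⟨k, N, hN, ⟨e'⟩⟩ := hM
    exact ⟨k, N, hN, ⟨e.symm ≪≫ e'⟩⟩
  zero M hM := by
    refine ⟨0, Fin.elim0, fun j => j.elim0, ⟨hM.iso ?_⟩⟩
    rw [IsZero.iff_id_eq_zero]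
    exact biproduct.hom_ext' _ _ fun j => j.elim0
  biprod M M' hM hM' := by
    obtain ⟨k, N, hN, ⟨e⟩⟩ := hM
    obtain ⟨l, N', hN', ⟨e'⟩⟩ := hM'
    refine ⟨k + l, fun i => Sum.elim N N' (finSumFinEquiv.symm i), fun i => ?_, ⟨biprod.mapIso e e' ≪≫
      biprodBiproductIso N N' ≪≫ biproduct.whiskerEquiv (g := fun i => Sum.elim N N' (finSumFinEquiv.symm i))
        finSumFinEquiv (fun s => eqToIso (by simp))⟩⟩
    show PicF.IsInvertible (Sum.elim N N' (finSumFinEquiv.symm i)) ∧ KSix.IsNegPower L (Sum.elim N N' (finSumFinEquiv.symm i))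
    cases finSumFinEquiv.symm i with
    | inl j => exact hN j
    | inr j => exact hN' j
  gen M hM hft := by
    haveI := hL.1
    haveI := hL.2.1
    obtain ⟨r, N, π, hπ, hN⟩ := AmpleFamGen.exists_epi_negPowers L hL.2.2.1 hL.2.2.2 hM hft
    exact ⟨⨁ N, π, ⟨r, N, fun j => ⟨(hN j).1, (hN j).2⟩, ⟨Iso.refl _⟩⟩, hπ⟩

end Groth.Agent.H6RP
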