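import Groth.Agent.H6RP.Perfect
import Groth.Agent.PCohLib.Infinite
import Groth.Agent.KFlatLib.Scheme.PCQCoh

/-!
# Resolutions by a generating class of finite locally free modules
-/

set_option autoImplicit false
set_option linter.style.haveILetI false
set_option backward.isDefEq.respectTransparency false
set_option backward.isDefEq.respectTransparency.types false
set_option maxHeartbeats 400000

universe w v u

open CategoryTheory CategoryTheory.Limits HomologicalComplex

noncomputable section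

namespace Groth.Agent.H6RP

open Groth.Agent

section Colimit

variable {C : Type u} [Category.{v} C] [Abelian C] [HasDerivedCategory.{w} C] (P : ObjectProperty C)
  [P.IsClosedUnderIsomorphisms]

/-- Complexes that are bounded with terms in `P`. -/
def Bdd (E : CochainComplex C ℤ) : Prop :=
  (∃ a b : ℤ, ∀ i, i < a ∨ b < i → IsZero (E.X i)) ∧ ∀ i, P (E.X i)

omit [HasDerivedCategory C] in
/-- Iterating steps which change one degree at a time. -/
theorem exists_colimit {F : CochainComplex C ℤ}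
    (next : ∀ (E : CochainComplex C ℤ) (u : E ⟶ F) (m : ℤ), Bdd P E → PCohLib.ExactGE u (m + 1) →
      ∃ (E' : CochainComplex C ℤ) (v : E ⟶ E') (u' : E' ⟶ F), v ≫ u' = u ∧
        (∀ i, Mono (v.f i)) ∧ (∀ i, i ≠ m → IsIso (v.f i)) ∧ Bdd P E' ∧ PCohLib.ExactGE u' m)
    (n : ℤ) (hF : ∀ i, n ≤ i → F.ExactAt i) (hP0 : ∀ M : C, IsZero M → P M) :
    ∃ (E : CochainComplex C ℤ) (u : E ⟶ F), (∀ i, n ≤ i → IsZero (E.X i)) ∧ (∀ i, P (E.X i)) ∧
      QuasiIso u := by
  let Z : CochainComplex C ℤ := HomologicalComplex.zero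
  have hZ : ∀ i, IsZero (Z.X i) := fun i =>
    (HomologicalComplex.eval C (ComplexShape.up ℤ) i).map_isZero HomologicalComplex.isZero_zero
  let Stage : ℕ → Type (max u v) := fun k => {p : Σ E : CochainComplex C ℤ, (E ⟶ F) //
    Bdd P p.1 ∧ PCohLib.ExactGE p.2 (n - (k : ℤ))}
  have key : ∀ (k : ℕ) (s : Stage k), ∃ (t : Stage (k + 1)) (v : s.1.1 ⟶ t.1.1),
      v ≫ t.1.2 = s.1.2 ∧ (∀ i, Mono (v.f i)) ∧ ∀ i, i ≠ n - ((k + 1 : ℕ) : ℤ) → IsIso (v.f i) := by
    intro k s
    obtain ⟨E', v, u', h, hm, hi, hb, hx⟩ := next s.1.1 s.1.2 (n - ((k + 1 : ℕ) : ℤ)) s.2.1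
      (by rw [show n - ((k + 1 : ℕ) : ℤ) + 1 = n - (k : ℤ) by omega]; exact s.2.2)
    exact ⟨⟨⟨E', u'⟩, hb, hx⟩, v, h, hm, hi⟩
  choose nxt vv hv₁ hv₂ hv₃ using key
  let st : (k : ℕ) → Stage k := fun k => Nat.rec (motive := Stage)
    ⟨⟨Z, 0⟩, ⟨⟨0, 0, fun i _ => hZ i⟩, fun i => hP0 _ (hZ i)⟩, PCohLib.exactGE_of_zero _ _ hZ fun i hi => hF i (by simpa using hi)⟩
    (fun k s => nxt k s) k
  let X : ℕ → CochainComplex C ℤ := fun k => (st k).1.1
  let step : ∀ k, X k ⟶ X (k + 1) := fun k => vv k (st k)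
  have hu : ∀ k, step k ≫ (st (k + 1)).1.2 = (st k).1.2 := fun k => hv₁ k (st k)
  have hm : ∀ k i, Mono ((step k).f i) := fun k => hv₂ k (st k)
  have hiso : ∀ k i, i ≠ n - ((k + 1 : ℕ) : ℤ) → IsIso ((step k).f i) := fun k => hv₃ k (st k)
  let S : ℕ ⥤ CochainComplex C ℤ := Functor.ofSequence step
  have hmapi : ∀ i k l (h : k ≤ l), (n - i).toNat ≤ k → IsIso ((S.map (homOfLE h)).f i) := by
    intro i k l h hk
    induction l with
    | zero =>
      obtain rfl : k = 0 := by omega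
      rw [show homOfLE h = 𝟙 (0 : ℕ) from rfl, CategoryTheory.Functor.map_id, HomologicalComplex.id_f]
      infer_instance
    | succ l ih =>
      rcases Nat.eq_or_lt_of_le h with rfl | hlt
      · rw [show homOfLE h = 𝟙 (l + 1 : ℕ) from rfl, CategoryTheory.Functor.map_id, HomologicalComplex.id_f]
        infer_instance
      · haveI := ih (Nat.le_of_lt_succ hlt)
        haveI := hiso l i (by omega)
        rw [show homOfLE h = homOfLE (Nat.le_of_lt_succ hlt) ≫ homOfLE (Nat.le_add_right l 1) from rfl,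
          Functor.map_comp, HomologicalComplex.comp_f, Functor.ofSequence_map_homOfLE_succ]
        infer_instance
  have hev : ∀ i, (S ⋙ HomologicalComplex.eval C (ComplexShape.up ℤ) i).IsEventuallyConstantFrom (n - i).toNat := by
    intro i j f
    exact hmapi i _ j (leOfHom f) le_rfl
  haveI : ∀ i, HasColimit (S ⋙ HomologicalComplex.eval C (ComplexShape.up ℤ) i) := fun i => (hev i).hasColimit
  let c : Cocone S :=
    { pt := F
      ι := NatTrans.ofSequence (fun k => (st k).1.2) (fun k => by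
        rw [Functor.ofSequence_map_homOfLE_succ, Functor.const_obj_map]
        exact (hu k).trans (Category.comp_id _).symm) }
  have hι : ∀ i l, (n - i).toNat ≤ l → IsIso ((colimit.ι S l).f i) := fun i l hl =>
    (hev i).isIso_ι_of_isColimit' (isColimitOfPreserves (HomologicalComplex.eval C (ComplexShape.up ℤ) i)
      (colimit.isColimit S)) l (homOfLE hl)
  refine ⟨colimit S, colimit.desc S c, fun i hi => ?_, fun i => ?_, ?_⟩
  · haveI := hι i 0 (by omega)
    exact (hZ i).of_iso (asIso ((colimit.ι S 0).f i)).symm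
  · haveI := hι i (n - i).toNat le_rfl
    exact P.prop_of_iso (asIso ((colimit.ι S (n - i).toNat).f i)) ((st (n - i).toNat).2.1.2 i)
  · rw [quasiIso_iff]
    intro i
    let l := (n - i).toNat + 2
    haveI := hι (i - 1) l (by omega)
    haveI := hι i l (by omega)
    haveI := hι (i + 1) l (by omega)
    haveI : QuasiIsoAt (colimit.ι S l) i := by
      rw [quasiIsoAt_iff' _ (i - 1) i (i + 1) (by simp) (by simp)]
      haveI : Epi ((HomologicalComplex.shortComplexFunctor' C (ComplexShape.up ℤ) (i - 1) i (i + 1)).map (colimit.ι S l)).τ₁ :=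
        inferInstanceAs (Epi ((colimit.ι S l).f (i - 1)))
      haveI : IsIso ((HomologicalComplex.shortComplexFunctor' C (ComplexShape.up ℤ) (i - 1) i (i + 1)).map (colimit.ι S l)).τ₂ :=
        inferInstanceAs (IsIso ((colimit.ι S l).f i))
      haveI : Mono ((HomologicalComplex.shortComplexFunctor' C (ComplexShape.up ℤ) (i - 1) i (i + 1)).map (colimit.ι S l)).τ₃ :=
        inferInstanceAs (Mono ((colimit.ι S l).f (i + 1)))
      exact ShortComplex.quasiIso_of_epi_of_isIso_of_mono _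
    haveI : QuasiIsoAt (colimit.ι S l ≫ colimit.desc S c) i := by
      rw [colimit.ι_desc, quasiIsoAt_iff_isIso_homologyMap]
      exact ((PCohLib.exactGE_iff (st l).1.2 _).mp (st l).2.2).1 i (by omega)
    exact quasiIsoAt_of_comp_left (colimit.ι S l) _ i

end Colimit

section Scheme

open AlgebraicGeometry CategoryTheory.Pretriangulated

attribute [local instance] HasDerivedCategory.standard

universe u'

variable {X : Scheme.{u'}}

/-- A class of finite locally free modules generating the quasi-coherent modules of finite type. -/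
structure GenClass (P : ObjectProperty X.Modules) : Prop where
  flf : ∀ M, P M → FlatMod.IsFinLocFree M
  iso : ∀ {M N : X.Modules}, (M ≅ N) → P M → P N
  zero : ∀ M, IsZero M → P M
  biprod : ∀ M N, P M → P N → P (M ⊞ N)
  gen : ∀ M, Coh.IsQCoh M → CohB1.IsFT M → ∃ (E : X.Modules) (π : E ⟶ M), P E ∧ Epi π

variable {P : ObjectProperty X.Modules}

theorem GenClass.resolutionProperty (hP : GenClass P) : PerfAux.HasResolutionProperty X := fun M h₁ h₂ => by
  obtain ⟨E, π, hE, hπ⟩ := hP.gen M h₁ h₂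
  exact ⟨E, π, hP.flf E hE, hπ⟩

theorem GenClass.exists_epi_comp [CompactSpace X] [QuasiSeparatedSpace X] (hP : GenClass P)
    {G H : X.Modules} (hG : Coh.IsQCoh G) (hH : Coh.IsQCoh H) (hft : CohB1.IsFT H) (p : G ⟶ H) [Epi p] :
    ∃ (E : X.Modules) (l : E ⟶ G), P E ∧ Epi (l ≫ p) := by
  obtain ⟨E, l, hE, hl⟩ := exists_flf_epi_comp hP.resolutionProperty hG hH hft p
  obtain ⟨E', π, hE', hπ⟩ := hP.gen E (QCoh.isQCoh_of_isFinLocFree hE)
    (QCoh.isFT_of_isFP (QCoh.isFP_of_isFinLocFree hE))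
  exact ⟨E', π ≫ l, hE', by rw [Category.assoc]; exact @epi_comp _ _ _ _ _ π hπ (l ≫ p) hl⟩

/-- One step, for a generating class. -/
theorem GenClass.exists_step [CompactSpace X] [QuasiSeparatedSpace X] (hP : GenClass P)
    {E F : CochainComplex X.Modules ℤ} (hFq : ∀ i, Coh.IsQCoh (F.X i)) (n : ℤ)
    (hF : KFlatLib.LocPC n (DCoh.toD X F)) (u : E ⟶ F) (hE : Bdd P E) (h : PCohLib.ExactGE u (n + 1)) :
    ∃ (E' : CochainComplex X.Modules ℤ) (v : E ⟶ E') (u' : E' ⟶ F), v ≫ u' = u ∧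
      (∀ i, Mono (v.f i)) ∧ (∀ i, i ≠ n → IsIso (v.f i)) ∧ Bdd P E' ∧ PCohLib.ExactGE u' n := by
  have hEs : DCoh.IsStrictlyPerfect E := ⟨hE.1, fun i => hP.flf _ (hE.2 i)⟩
  let C := CochainComplex.mappingCone u
  have hC : KFlatLib.LocPC n (DCoh.toD X C) :=
    KFlatLib.locPC_obj₃ _ (DerivedCategory.mappingCone_triangle_distinguished u)
      (((KFlatLib.isPerfect_iff _).1 (isPerfect_of_isStrictlyPerfect hEs)).locPC (n + 1)) hF
  let e : DCoh.HD (DCoh.toD X C) n ≅ C.homology n :=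
    (DerivedCategory.homologyFunctorFactors X.Modules n).app C
  have hz : ∀ i, n < i → IsZero (DCoh.HD (DCoh.toD X C) i) := fun i hi =>
    ((exactAt_iff_isZero_homology C i).1 (h i (by omega))).of_iso
      ((DerivedCategory.homologyFunctorFactors X.Modules i).app C)
  have hHft : CohB1.IsFT (C.homology n) := KFlatLib.isFT_of_iso' e (KFlatLib.isFT_top hC hz)
  have hCq : ∀ i, Coh.IsQCoh (C.X i) := fun i => by
    haveI := HomologicalComplex.HasHomotopyCofiber.hasBinaryBiproduct u i (i + 1) rfl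
    exact (QCoh.isQCoh_iff_iso (HomologicalComplex.homotopyCofiber.XIsoBiprod u i (i + 1) rfl)).2
      (PCohLib.prop_biprod (P := QCohCat.isQCoh X)
        (fun M N hM hN => (QCohCat.isQCoh X).prop_prod M N hM hN)
        (QCoh.isQCoh_of_isFinLocFree (hEs.2 _)) (hFq i))
  have hZq : Coh.IsQCoh (C.cycles n) :=
    (QCoh.isQCoh_iff_iso (IsLimit.conePointUniqueUpToIso (kernelIsKernel (C.d n (n + 1)))
      (C.cyclesIsKernel n (n + 1) (by simp)))).1 (QCoh.isQCoh_kernel (hCq n) (hCq (n + 1)) _)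
  have hHq : Coh.IsQCoh (C.homology n) :=
    (QCoh.isQCoh_iff_iso (IsColimit.coconePointUniqueUpToIso (cokernelIsCokernel (C.toCycles (n - 1) n))
      (C.homologyIsCokernel (n - 1) n (by simp)))).1 (QCoh.isQCoh_cokernel (hCq (n - 1)) hZq _)
  obtain ⟨F', g, hF', hg⟩ := hP.exists_epi_comp hZq hHq hHft (C.homologyπ n)
  let T := (HomologicalComplex.single X.Modules (ComplexShape.up ℤ) n).obj F'
  let j : T ⟶ C := HomologicalComplex.mkHomFromSingle (g ≫ C.iCycles n) (fun k _ => by simp)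
  have hjn : (HomologicalComplex.singleObjCyclesSelfIso (ComplexShape.up ℤ) n F').inv ≫ cyclesMap j n = g := by
    rw [← cancel_mono (C.iCycles n)]
    simp [j, T]
  haveI : Epi (homologyMap j n) := by
    have h1 : (HomologicalComplex.singleObjCyclesSelfIso (ComplexShape.up ℤ) n F').inv ≫ T.homologyπ n ≫
        homologyMap j n = g ≫ C.homologyπ n := by
      rw [homologyπ_naturality, reassoc_of% hjn]
    haveI : Epi (((HomologicalComplex.singleObjCyclesSelfIso (ComplexShape.up ℤ) n F').inv ≫ T.homologyπ n) ≫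
        homologyMap j n) := by rw [Category.assoc, h1]; exact hg
    exact epi_of_epi ((HomologicalComplex.singleObjCyclesSelfIso (ComplexShape.up ℤ) n F').inv ≫ T.homologyπ n) _
  have hTz : ∀ i, i ≠ n → IsZero (T.X i) := fun i hi => HomologicalComplex.isZero_single_obj_X _ _ _ _ hi
  have hTf : ∀ i, P (T.X i) := fun i => by
    by_cases hi : i = n
    · subst hi
      exact hP.iso (HomologicalComplex.singleObjXSelf _ i F').symm hF'
    · exact hP.zero _ (hTz i hi)
  refine ⟨PCohLib.Ext.cx u j, PCohLib.Ext.v u j, PCohLib.Ext.map u j, PCohLib.Ext.v_map u j,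
    PCohLib.Ext.mono_v u j, fun i hi => PCohLib.Ext.isIso_v u j i (hTz i hi), ?_, ?_⟩
  · obtain ⟨⟨a, b, hab⟩, hPE⟩ := hE
    refine ⟨⟨min a n, max b n, fun i hi => ?_⟩, fun i => hP.biprod _ _ (hPE i) (hTf i)⟩
    show IsZero (E.X i ⊞ T.X i)
    rw [IsZero.iff_id_eq_zero]
    exact biprod.hom_ext _ _ ((hab i (by omega)).eq_of_tgt _ _) ((hTz i (by omega)).eq_of_tgt _ _)
  · rw [PCohLib.Ext.exactGE_map_iff, PCohLib.exactGE_iff]
    refine ⟨fun i hi => ?_, inferInstance⟩
    exact ⟨⟨0, ((exactAt_iff_isZero_homology _ _).mp (PCohLib.exactAt_of_isZero (hTz i (by omega)))).eq_of_src _ _,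
      ((exactAt_iff_isZero_homology _ _).mp (h i (by omega))).eq_of_src _ _⟩⟩

/-- Pseudo-coherent objects with bounded cohomology have bounded above resolutions by a generating class. -/
theorem GenClass.exists_resolution [CompactSpace X] [QuasiSeparatedSpace X] (hP : GenClass P)
    (K : DCoh.D X) (hpc : ∀ m, KFlatLib.LocPC m K) (a b : ℤ) (hz : ∀ i, i < a ∨ b < i → IsZero (DCoh.HD K i)) :
    ∃ E : CochainComplex X.Modules ℤ, (∀ i, b < i → IsZero (E.X i)) ∧ (∀ i, P (E.X i)) ∧
      Nonempty (DCoh.toD X E ≅ K) := by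
  haveI : P.IsClosedUnderIsomorphisms := ⟨fun e h => hP.iso e h⟩
  have hq : DCoh.IsQCohD K := fun i =>
    KFlatLib.isQCoh_HD_of_pseudoCoherent ((KFlatLib.isPseudoCoherentD_iff (i - 1) K).2 (hpc (i - 1))) i (by omega)
  have hge : K.IsGE a := (DerivedCategory.isGE_iff _ _).2 fun i hi => hz i (Or.inl hi)
  have hle : K.IsLE (a + ((b + 1 - a).toNat : ℤ) - 1) :=
    (DerivedCategory.isLE_iff _ _).2 fun i hi => hz i (Or.inr (by omega))
  obtain ⟨J, a', hJa, hJ, ⟨eJ⟩⟩ := hasInjQRep_of_bounded (S1009.result X hP.resolutionProperty) a _ K hge hle hq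
  obtain ⟨E, u, hEz, hEP, hu⟩ := exists_colimit P
    (fun E u m hE h => hP.exists_step hJ.isQCoh m ((hpc m).of_iso eJ.symm) u hE h) (b + 1)
    (fun i hi => (exactAt_iff_isZero_homology J i).2 ((hz i (Or.inr (by omega))).of_iso
      (((DerivedCategory.homologyFunctorFactors X.Modules i).app J).symm ≪≫
        (DerivedCategory.homologyFunctor X.Modules i).mapIso eJ))) hP.zero
  exact ⟨E, fun i hi => hEz i (by omega), hEP,
    ⟨@asIso _ _ _ _ (DerivedCategory.Q.map u) (KFlatLib.isIso_Q_map _ hu) ≪≫ eJ⟩⟩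

/-- Objects of perfect amplitude in `[m, n]` have resolutions in `[m, n]` by a generating class, except for the
lowest term which is only finite locally free. -/
theorem GenClass.exists_resolution_amplitude [CompactSpace X] [QuasiSeparatedSpace X] (hP : GenClass P)
    (K : DCoh.D X) (m n : ℤ)
    (hK : ∀ x : X, ∃ (U : Scheme.{u'}) (j : U ⟶ X) (_ : IsOpenImmersion j), x ∈ Set.range j.base ∧
      ∃ Q : CochainComplex U.Modules ℤ, DCoh.VanishesOutside Q m n ∧ (∀ i, FlatMod.IsFinLocFree (Q.X i)) ∧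
        Nonempty (DerivedCategory.Q.obj Q ≅ (KFlatLib.rho j).obj K)) :
    ∃ F : CochainComplex X.Modules ℤ, DCoh.VanishesOutside F m n ∧ (∀ i, m < i → P (F.X i)) ∧
      FlatMod.IsFinLocFree (F.X m) ∧ Nonempty (DCoh.toD X F ≅ K) := by
  have hz : ∀ i, i < m ∨ n < i → IsZero (DCoh.HD K i) := fun i hi => KFlatLib.isZero_of_stalk _ fun x => by
    obtain ⟨U, j, _, ⟨u', rfl⟩, Q, hv, -, ⟨e⟩⟩ := hK x
    refine KFlatLib.isZero_stalk_of_restrict j u' ((DerSch.stalkFunctor U u').map_isZero ?_)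
    exact (ShortComplex.isZero_homology_of_isZero_X₂ _ (hv i hi)).of_iso
      ((KFlatLib.hdRhoIso j K i).symm ≪≫ (DerivedCategory.homologyFunctor _ i).mapIso e.symm ≪≫
        (DerivedCategory.homologyFunctorFactors _ i).app _)
  have hsp : KFlatLib.LocSP K := fun x => by
    obtain ⟨U, j, hj, hx, Q, hv, hf, e⟩ := hK x
    exact ⟨U, j, hj, hx, Q, ⟨⟨m, n, hv⟩, hf⟩, e⟩
  obtain ⟨E, hEz, hEP, ⟨eE⟩⟩ := hP.exists_resolution K (fun k => hsp.locPC k) m n hz
  haveI : CochainComplex.IsGE E m := (CochainComplex.isGE_iff E m).2 fun i hi =>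
    (exactAt_iff_isZero_homology E i).2 ((hz i (Or.inl hi)).of_iso
      (((DerivedCategory.homologyFunctorFactors X.Modules i).app E).symm ≪≫
        (DerivedCategory.homologyFunctor X.Modules i).mapIso eE))
  let F := E.truncGE m
  haveI : QuasiIso (E.πTruncGE m) := inferInstance
  let e : DerivedCategory.Q.obj F ≅ K :=
    (@asIso _ _ _ _ (DerivedCategory.Q.map (E.πTruncGE m)) (KFlatLib.isIso_Q_map _ inferInstance)).symm ≪≫ eE
  let ec₀ := IsColimit.coconePointUniqueUpToIso (cokernelIsCokernel (E.d (m - 1) m))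
    (E.opcyclesIsCokernel (m - 1) m (by simp))
  let ec : cokernel (E.d (m - 1) m) ≅ F.X m := ec₀ ≪≫ (E.truncGEXIsoOpcycles m).symm
  have hv : DCoh.VanishesOutside F m n := by
    rintro i (hi | hi)
    · exact F.isZero_of_isStrictlyGE m i hi
    · rcases lt_trichotomy i m with h | h | h
      · exact F.isZero_of_isStrictlyGE m i h
      · subst h
        exact IsZero.of_iso (IsZero.of_epi (cokernel.π _) (hEz i hi)) ec.symm
      · exact (hEz i hi).of_iso (E.truncGEXIso m i h)
  have hflat : ∀ i, m < i → FlatMod.IsFlat (F.X i) := fun i hi =>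
    KFlatLib.IsFlat.of_iso (E.truncGEXIso m i hi).symm (KFlatLib.isFlat_of_isFinLocFree (hP.flf _ (hEP i)))
  have htor : DCoh.HasTorAmplitudeIn m n (DCoh.toD X F) := KFlatLib.torAmplitude_of_local _ fun x => by
    obtain ⟨U, j, _, hx, Q, hQv, hQf, ⟨eQ⟩⟩ := hK x
    exact ⟨U, j, inferInstance, hx, KFlatLib.torAmplitude_of_flatAmplitude
      ⟨Q, hQv, fun i => KFlatLib.isFlat_of_isFinLocFree (hQf i), ⟨eQ ≪≫ (KFlatLib.rho j).mapIso e.symm⟩⟩⟩
  have hbot : FlatMod.IsFlat (F.X m) := KFlatLib.isFlat_lowest hv hflat @fun G _ =>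
    htor G (m - 1) (Or.inl (by omega))
  exact ⟨F, hv, fun i hi => hP.iso (E.truncGEXIso m i hi).symm (hEP i),
    H23.PullPush.isFinLocFree_of_iso ec (KFlatLib.isFinLocFree_cokernel _ (hP.flf _ (hEP _)) (hP.flf _ (hEP _))
      (KFlatLib.IsFlat.of_iso ec.symm hbot)), ⟨e⟩⟩

end Scheme

end Groth.Agent.H6RP
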