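import Groth.Agent.CechShRes.Push
import Groth.Agent.BlendLib.Basic
import Groth.Agent.QCoh.Extension
import Groth.Agent.QCoh.FT
import Groth.Agent.QCoh.CechStd
import Groth.Agent.SiteBase.ExtMod
import Groth.Agent.S7445
import Groth.Agent.Exactness.QCohCategory
import Mathlib.Algebra.Homology.DerivedCategory.Ext.ExactSequences
import Mathlib.Algebra.Homology.DerivedCategory.Ext.EnoughInjectives

/-!
# Injective quasi-coherent modules have no higher extensions
-/

set_option autoImplicit false
set_option linter.style.haveILetI false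
set_option backward.isDefEq.respectTransparency false
set_option backward.isDefEq.respectTransparency.types false
set_option maxHeartbeats 400000

universe u

open CategoryTheory CategoryTheory.Limits AlgebraicGeometry TopologicalSpace Opposite Abelian

noncomputable section

namespace Groth.Agent.H6RP

open Groth.Agent

attribute [local instance] HasDerivedCategory.standard CategoryTheory.Abelian.hasFiniteBiproducts

variable {X : Scheme.{u}}

instance hasExt_modules (X : Scheme.{u}) : HasExt.{u} X.Modules := hasExt_of_enoughInjectives _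

/-- First extensions into injective quasi-coherent modules split. -/
theorem ext_one_eq_zero (I : QCohCat.QCoh X) [Injective I] {N : X.Modules} (hN : Coh.IsQCoh N)
    (e : Ext N I.obj 1) : e = 0 := by
  obtain ⟨Z, a, b, z, hS, rfl⟩ := BlendLib.exists_extClass_eq e
  have hZ : Coh.IsQCoh Z := QCoh.isQCoh_X₂ hS I.property hN
  let aQ : I ⟶ (⟨Z, hZ⟩ : QCohCat.QCoh X) := ObjectProperty.homMk a
  haveI := hS.mono_f
  haveI : Mono aQ := (QCohCat.isQCoh X).ι.mono_of_mono_map (inferInstanceAs (Mono a))
  let r : Z ⟶ I.obj := (Injective.factorThru (𝟙 I) aQ).hom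
  have hr : a ≫ r = 𝟙 _ := congrArg (fun t : I ⟶ I => t.hom) (Injective.comp_factorThru (𝟙 I) aQ)
  have h := hS.extClass_comp
  calc hS.extClass = hS.extClass.comp (Ext.mk₀ (a ≫ r)) (add_zero 1) := by rw [hr, Ext.comp_mk₀_id]
    _ = 0 := by
      rw [← Ext.mk₀_comp_mk₀, ← Ext.comp_assoc _ _ _ (add_zero 1) (add_zero 0) (by omega), h, Ext.zero_comp]

section affine

variable {R : CommRingCat.{u}}

/-- Extensions from free modules into modules without higher cohomology vanish. -/
theorem ext_free_eq_zero (σ : Type u) : ∀ (n : ℕ) (M : X.Modules),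
    (∀ q : ℕ, Subsingleton (Ext (SheafOfModules.unit X.ringCatSheaf) M (q + 1))) →
      ∀ e : Ext (SheafOfModules.free σ : X.Modules) M (n + 1), e = 0 := by
  intro n
  induction n with
  | zero =>
    intro M hM e
    let T := ShortComplex.mk (Injective.ι M) (cokernel.π (Injective.ι M)) (cokernel.condition _)
    have hT : T.ShortExact := { exact := ShortComplex.exact_of_g_is_cokernel _ (cokernelIsCokernel _) }
    obtain ⟨y, rfl⟩ := Ext.covariant_sequence_exact₁ (SheafOfModules.free σ : X.Modules) hT e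
      (Ext.eq_zero_of_injective _) (zero_add 1)
    obtain ⟨t, rfl⟩ := Ext.homEquiv₀.symm.surjective y
    haveI := hM 0
    have hl : ∀ i : σ, ∃ l : SheafOfModules.unit X.ringCatSheaf ⟶ T.X₂,
        l ≫ T.g = Sigma.ι (fun _ : σ => SheafOfModules.unit X.ringCatSheaf) i ≫ t := fun i => by
      obtain ⟨x, hx⟩ := Ext.covariant_sequence_exact₃ (SheafOfModules.unit X.ringCatSheaf) hT
        (Ext.mk₀ (Sigma.ι (fun _ : σ => SheafOfModules.unit X.ringCatSheaf) i ≫ t)) (zero_add 1)
        (Subsingleton.elim _ _)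
      obtain ⟨l, rfl⟩ := Ext.homEquiv₀.symm.surjective x
      exact ⟨l, Ext.homEquiv₀.symm.injective (by simpa using hx)⟩
    choose l hl using hl
    have h : Sigma.desc l ≫ T.g = t := Sigma.hom_ext _ _ fun i => by
      rw [Sigma.ι_desc_assoc]; exact hl i
    show (Ext.mk₀ t).comp hT.extClass _ = 0
    rw [← h, ← Ext.mk₀_comp_mk₀, Ext.comp_assoc_of_second_deg_zero, hT.comp_extClass, Ext.comp_zero]
  | succ n ih =>
    intro M hM e
    let T := ShortComplex.mk (Injective.ι M) (cokernel.π (Injective.ι M)) (cokernel.condition _)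
    have hT : T.ShortExact := { exact := ShortComplex.exact_of_g_is_cokernel _ (cokernelIsCokernel _) }
    obtain ⟨y, rfl⟩ := Ext.covariant_sequence_exact₁ (SheafOfModules.free σ : X.Modules) hT e
      (Ext.eq_zero_of_injective _) (rfl : n + 1 + 1 = n + 2)
    have hQ : ∀ q : ℕ, Subsingleton (Ext (SheafOfModules.unit X.ringCatSheaf) T.X₃ (q + 1)) := fun q =>
      subsingleton_of_forall_eq 0 fun x => by
        obtain ⟨w, rfl⟩ := Ext.covariant_sequence_exact₃ (SheafOfModules.unit X.ringCatSheaf) hT x rfl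
          (@Subsingleton.elim _ (hM (q + 1)) _ _)
        haveI : Injective T.X₂ := inferInstanceAs (Injective (Injective.under M))
        have hw : w = 0 := Ext.eq_zero_of_injective w
        rw [hw, Ext.zero_comp]
    rw [ih T.X₃ hQ y, Ext.zero_comp]

/-- Quasi-coherent modules without higher cohomology on an affine scheme. -/
theorem subsingleton_ext_unit [IsAffine X] {M : X.Modules} (hM : Coh.IsQCoh M) (q : ℕ) :
    Subsingleton (Ext (SheafOfModules.unit X.ringCatSheaf) M (q + 1)) := by
  obtain ⟨e⟩ := SiteBase.nonempty_ext_unit_addEquiv (R := X.ringCatSheaf) M (q + 1)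
  haveI := QCoh.subsingleton_HH_of_isAffine hM q
  exact e.toEquiv.subsingleton

/-- A quasi-coherent module on an affine scheme is a quotient of a free one. -/
theorem exists_free_ses {N : (Spec R).Modules} (hN : Coh.IsQCoh N) :
    ∃ (σ : Type u) (T : ShortComplex (Spec R).Modules), T.ShortExact ∧
      T.X₂ = (SheafOfModules.free σ : (Spec R).Modules) ∧ T.X₃ = N ∧ Coh.IsQCoh T.X₁ := by
  let Γ' := moduleSpecΓFunctor.obj N
  let l : (Γ' →₀ R) →ₗ[R] Γ' := Finsupp.linearCombination R id
  let ψ : ModuleCat.of R (Γ' →₀ R) ⟶ Γ' := @ModuleCat.ofHom R _ (Γ' →₀ R) Γ' _ _ _ Γ'.isModule l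
  haveI : Epi ψ := (ModuleCat.epi_iff_surjective ψ).2 fun m =>
    ⟨Finsupp.single m 1, by show l (Finsupp.single m 1) = m; simp [l]⟩
  haveI : (tilde.functor R).PreservesEpimorphisms :=
    Functor.preservesEpimorphisms_of_adjunction tilde.adjunction
  let eN : tilde Γ' ≅ N := @asIso _ _ _ _ N.fromTildeΓ ((isQuasicoherent_iff_isIso_fromTildeΓ N).1 hN)
  let p' : tilde (ModuleCat.of R (Γ' →₀ R)) ⟶ N := (tilde.functor R).map ψ ≫ eN.hom
  have hp' : Epi p' := @epi_comp _ _ _ _ _ ((tilde.functor R).map ψ) (Functor.map_epi _ _) eN.hom inferInstance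
  let F : (Spec R).Modules := SheafOfModules.free.{u} (Γ' : Type u)
  let t : tilde (ModuleCat.of R (Γ' →₀ R)) ≅ F := tildeFinsupp (Γ' : Type u)
  let p : F ⟶ N := t.inv ≫ p'
  haveI : Epi p := @epi_comp _ _ _ _ _ t.inv inferInstance p' hp'
  have hF : Coh.IsQCoh F := (QCoh.isQCoh_iff_iso t).1 (QCoh.isQCoh_spec_iff.2 ⟨_, ⟨Iso.refl _⟩⟩)
  exact ⟨Γ', ShortComplex.mk (kernel.ι p) p (kernel.condition p),
    { exact := ShortComplex.exact_of_f_is_kernel _ (kernelIsKernel p) }, rfl, rfl, QCoh.isQCoh_kernel hF hN p⟩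

/-- Extensions into injective quasi-coherent modules on an affine scheme. -/
theorem ext_spec_eq_zero (I : QCohCat.QCoh (Spec R)) [Injective I] :
    ∀ (n : ℕ) {N : (Spec R).Modules}, Coh.IsQCoh N → ∀ e : Ext N I.obj (n + 1), e = 0
  | 0, N, hN, e => ext_one_eq_zero I hN e
  | n + 1, N, hN, e => by
    obtain ⟨σ, T, hT, h2, rfl, h1⟩ := exists_free_ses hN
    have hz : ∀ x : Ext T.X₂ I.obj (n + 1 + 1), x = 0 := by
      rw [h2]
      exact ext_free_eq_zero σ (n + 1) I.obj (subsingleton_ext_unit I.property)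
    obtain ⟨y, hy⟩ := Ext.contravariant_sequence_exact₃ hT I.obj e (hz _) (show 1 + (n + 1) = n + 1 + 1 by omega)
    rw [← hy, ext_spec_eq_zero I n h1 y, Ext.comp_zero]

end affine

/-- Extensions into a direct image vanish when they vanish on the source. -/
theorem ext_push_eq_zero {W : Scheme.{u}} (j : W ⟶ X) [IsOpenImmersion j] : ∀ (n : ℕ) (J : W.Modules),
    TriCat.IsRightAcyclic (Scheme.Modules.pushforward j) J → ∀ (N : X.Modules),
    (∀ q, ∀ e : Ext (N.restrict j) J (q + 1), e = 0) →
      ∀ e : Ext N ((Scheme.Modules.pushforward j).obj J) (n + 1), e = 0 := by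
  haveI := QCoh.preservesFiniteLimits_push j
  haveI := CechShRes.preservesMono_restrict j
  intro n
  induction n with
  | zero =>
    intro J hac N h e
    let T := ShortComplex.mk (Injective.ι J) (cokernel.π (Injective.ι J)) (cokernel.condition _)
    have hT : T.ShortExact := { exact := ShortComplex.exact_of_g_is_cokernel _ (cokernelIsCokernel _) }
    have hT' := TriCat.shortExact_map_of_subsingleton hT (hac 1 one_pos)
    haveI : Injective (T.map (Scheme.Modules.pushforward j)).X₂ :=
      Injective.injective_of_adjoint (Scheme.Modules.restrictAdjunction j) (Injective.under J)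
    obtain ⟨y, rfl⟩ := Ext.covariant_sequence_exact₁ N hT' e (Ext.eq_zero_of_injective _) (zero_add 1)
    obtain ⟨t, rfl⟩ := Ext.homEquiv₀.symm.surjective y
    let A := Scheme.Modules.restrictAdjunction j
    obtain ⟨x, hx⟩ := Ext.covariant_sequence_exact₃ (N.restrict j) hT
      (Ext.mk₀ ((A.homEquiv N T.X₃).symm t)) (zero_add 1) (h 0 _)
    obtain ⟨s, rfl⟩ := Ext.homEquiv₀.symm.surjective x
    have hs : s ≫ T.g = (A.homEquiv N T.X₃).symm t := Ext.homEquiv₀.symm.injective (by simpa using hx)
    have ht : A.homEquiv N T.X₂ s ≫ (T.map (Scheme.Modules.pushforward j)).g = t := by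
      refine (A.homEquiv_naturality_right s T.g).symm.trans ?_
      rw [hs, Equiv.apply_symm_apply]
    show (Ext.mk₀ t).comp hT'.extClass _ = 0
    rw [← ht, ← Ext.mk₀_comp_mk₀, Ext.comp_assoc_of_second_deg_zero, hT'.comp_extClass, Ext.comp_zero]
  | succ n ih =>
    intro J hac N h e
    let T := ShortComplex.mk (Injective.ι J) (cokernel.π (Injective.ι J)) (cokernel.condition _)
    have hT : T.ShortExact := { exact := ShortComplex.exact_of_g_is_cokernel _ (cokernelIsCokernel _) }
    have hT' := TriCat.shortExact_map_of_subsingleton hT (hac 1 one_pos)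
    haveI : Injective (T.map (Scheme.Modules.pushforward j)).X₂ :=
      Injective.injective_of_adjoint (Scheme.Modules.restrictAdjunction j) (Injective.under J)
    obtain ⟨y, rfl⟩ := Ext.covariant_sequence_exact₁ N hT' e (Ext.eq_zero_of_injective _) rfl
    have hac' : TriCat.IsRightAcyclic (Scheme.Modules.pushforward j) T.X₃ := fun i hi => by
      obtain ⟨δ, w₁, w₂, w₃, -, e₂, -⟩ := TriCat.exists_rightDerived_ses (Scheme.Modules.pushforward j) hT i
      exact e₂.isZero_X₂ ((TriCat.isRightAcyclic_of_injective (Injective.under J) i hi).eq_of_src _ _)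
        ((hac (i + 1) (by omega)).eq_of_tgt _ _)
    have h' : ∀ q, ∀ e : Ext (N.restrict j) T.X₃ (q + 1), e = 0 := fun q x => by
      obtain ⟨w, rfl⟩ := Ext.covariant_sequence_exact₃ (N.restrict j) hT x rfl (h (q + 1) _)
      haveI : Injective T.X₂ := inferInstanceAs (Injective (Injective.under J))
      have hw : w = 0 := Ext.eq_zero_of_injective w
      rw [hw, Ext.zero_comp]
    rw [ih T.X₃ hac' N h' y, Ext.zero_comp]

/-- Injective quasi-coherent modules have no higher extensions by quasi-coherent modules. -/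
theorem ext_inj_eq_zero [CompactSpace X]
    (hd : ∀ U V : X.Opens, IsAffineOpen U → IsAffineOpen V → IsAffineOpen (U ⊓ V))
    (I : QCohCat.QCoh X) [Injective I] {N : X.Modules} (hN : Coh.IsQCoh N) (n : ℕ)
    (e : Ext N I.obj (n + 1)) : e = 0 := by
  classical
  haveI := fun W : Scheme.{u} => S7445.result W
  let 𝒰 := X.affineCover.finiteSubcover
  let U : 𝒰.I₀ → X.Opens := fun i => (𝒰.f i).opensRange
  have hU : ∀ i, IsAffineOpen (U i) := fun i => isAffineOpen_opensRange _
  let j : ∀ i, Spec Γ(X, U i) ⟶ X := fun i => (hU i).fromSpec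
  haveI hj : ∀ i, IsAffineHom (j i) := fun i => ⟨fun V hV => by
    refine ((j i).isAffineOpen_iff_of_isOpenImmersion).1 ?_
    rw [Scheme.Hom.image_preimage_eq_opensRange_inf, (hU i).opensRange_fromSpec]
    exact hd _ _ (hU i) hV⟩
  let Mi : ∀ i, QCohCat.QCoh (Spec Γ(X, U i)) := fun i =>
    ⟨I.obj.restrict (j i), QCoh.isQCoh_restrict (j i) I.property⟩
  let J : ∀ i, QCohCat.QCoh (Spec Γ(X, U i)) := fun i => Injective.under (Mi i)
  let P : 𝒰.I₀ → X.Modules := fun i => (Scheme.Modules.pushforward (j i)).obj (J i).obj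
  have hP : ∀ i, Coh.IsQCoh (P i) := fun i => QCoh.isQCoh_pushforward (j i) (J i).property
  have hPv : ∀ i (e : Ext N (P i) (n + 1)), e = 0 := fun i =>
    ext_push_eq_zero (j i) n (J i).obj
      (fun q hq => PicGlue.isZero_Rpush_of_isAffineHom (j i) _ (J i).property q hq) N
      (fun q => ext_spec_eq_zero (J i) q (QCoh.isQCoh_restrict (j i) hN))
  let m : ∀ i, I.obj ⟶ P i := fun i =>
    (Scheme.Modules.restrictAdjunction (j i)).homEquiv _ _ ((Injective.ι (Mi i)).hom)
  let E : X.Modules := ⨁ P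
  let μ : I.obj ⟶ E := biproduct.lift m
  have hμ : Mono μ := Preadditive.mono_of_cancel_zero _ fun {G} φ hφ => by
    have hr : ∀ i, (Scheme.Modules.restrictFunctor (j i)).map φ = 0 := fun i => by
      have h1 : φ ≫ m i = 0 := by
        have := congrArg (· ≫ biproduct.π P i) hφ
        simpa [μ] using this
      have h2 := congrArg ((Scheme.Modules.restrictAdjunction (j i)).homEquiv _ _).symm h1
      rw [Adjunction.homEquiv_naturality_left_symm] at h2
      haveI : Mono (Injective.ι (Mi i)).hom :=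
        inferInstanceAs (Mono ((QCohCat.isQCoh _).ι.map (Injective.ι (Mi i))))
      rw [← cancel_mono (Injective.ι (Mi i)).hom, zero_comp]
      simpa [m] using h2
    refine Scheme.Modules.hom_ext _ _ fun V => ?_
    ext s
    refine TopCat.Presheaf.section_ext (⟨I.obj.presheaf, I.obj.isSheaf⟩ : TopCat.Sheaf AddCommGrpCat X)
      V _ _ fun x hx => ?_
    obtain ⟨i, y, rfl⟩ : ∃ i y, j i y = x :=
      ⟨𝒰.idx x, (hU (𝒰.idx x)).range_fromSpec.ge (𝒰.covers x)⟩
    have hV' : (j i) ''ᵁ ((j i) ⁻¹ᵁ V) ≤ V := Scheme.Hom.image_preimage_le _ _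
    have h3 := congr($(congrArg (fun t => Scheme.Modules.Hom.app t ((j i) ⁻¹ᵁ V)) (hr i))
      (G.presheaf.map (homOfLE hV').op s))
    change φ.app _ (G.presheaf.map (homOfLE hV').op s) = 0 at h3
    rw [QCoh.map_app_comm] at h3
    refine (TopCat.Presheaf.germ_res_apply _ (homOfLE hV') (j i y) ⟨y, hx, rfl⟩ _).symm.trans ?_
    refine (congrArg _ h3).trans ?_
    exact (map_zero _).trans (map_zero _).symm
  haveI := hμ
  have hE : Coh.IsQCoh E := QCoh.isQCoh_biproduct P hP
  let μQ : I ⟶ (⟨E, hE⟩ : QCohCat.QCoh X) := ObjectProperty.homMk μ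
  haveI : Mono μQ := (QCohCat.isQCoh X).ι.mono_of_mono_map (inferInstanceAs (Mono μ))
  let r : E ⟶ I.obj := (Injective.factorThru (𝟙 I) μQ).hom
  have hr : μ ≫ r = 𝟙 _ := congrArg (fun t : I ⟶ I => t.hom) (Injective.comp_factorThru (𝟙 I) μQ)
  have h : e.comp (Ext.mk₀ μ) (add_zero (n + 1)) = 0 := by
    have hid : μ = ∑ i, (μ ≫ biproduct.π P i) ≫ biproduct.ι P i := by
      refine (Category.comp_id μ).symm.trans ?_
      rw [show (𝟙 E : E ⟶ E) = ∑ i, biproduct.π P i ≫ biproduct.ι P i from (QCoh.biproduct_total' P).symm, Preadditive.comp_sum]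
      simp
    rw [hid, Ext.mk₀_sum, Ext.comp_sum]
    refine Finset.sum_eq_zero fun i _ => ?_
    rw [← Ext.mk₀_comp_mk₀, ← Ext.comp_assoc_of_second_deg_zero, hPv i (e.comp _ _), Ext.zero_comp]
  calc e = (e.comp (Ext.mk₀ μ) (add_zero (n + 1))).comp (Ext.mk₀ r) (add_zero (n + 1)) := by
        rw [Ext.comp_assoc_of_second_deg_zero, Ext.mk₀_comp_mk₀, hr, Ext.comp_mk₀_id]
    _ = 0 := by rw [h, Ext.zero_comp]

end Groth.Agent.H6RP
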