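import Groth.Agent.H6RP.QCohRep
import Groth.Agent.KFlatLib.Perfect.Tri
import Groth.Agent.KFlatLib.Perfect.DLocal

/-!
# Chain-level lifts of morphisms into complexes of injective quasi-coherent modules
-/

set_option autoImplicit false
set_option linter.style.haveILetI false
set_option backward.isDefEq.respectTransparency false
set_option backward.isDefEq.respectTransparency.types false
set_option maxHeartbeats 400000

universe u

open CategoryTheory CategoryTheory.Limits AlgebraicGeometry CategoryTheory.Pretriangulated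
open CochainComplex.HomComplex

noncomputable section

namespace Groth.Agent.H6RP

open Groth.Agent

attribute [local instance] HasDerivedCategory.standard

variable {X : Scheme.{u}}

/-- Boundaries have zero class. -/
theorem classMap_eq_zero_of_boundary (M : X.Modules) (F : CochainComplex X.Modules ℤ) (i : ℤ)
    (t : H6DR.Acy.Z M F i) (w : M ⟶ F.X (i - 1)) (hw : w ≫ F.d (i - 1) i = t.1) :
    H6DR.Acy.classMap M F i t = 0 := by
  have h : CohomologyClass.toHom (.mk (H6DR.Acy.cocy M t)) = 0 := by
    rw [CohomologyClass.toHom_mk_eq_zero_iff, mem_coboundaries_iff _ (i - 1) (by omega)]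
    refine ⟨Cochain.fromSingleMk w (show 0 + (i - 1) = i - 1 by omega), ?_⟩
    rw [Cochain.δ_fromSingleMk _ _ _ i (by omega), hw]
    rfl
  rw [H6DR.Acy.classMap_eq, h, Functor.map_zero, zero_comp, comp_zero]

/-- Morphisms from a bounded complex of quasi-coherent modules into a bounded below complex of injective
quasi-coherent modules come from chain maps. -/
theorem exists_map_of_bounded [CompactSpace X]
    (hd : ∀ U V : X.Opens, IsAffineOpen U → IsAffineOpen V → IsAffineOpen (U ⊓ V))
    (J : CochainComplex X.Modules ℤ) (a₀ : ℤ) [J.IsStrictlyGE a₀] (hJ : InjQ J) (b : ℤ) :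
    ∀ (k : ℕ) (E : CochainComplex X.Modules ℤ), (∀ i, Coh.IsQCoh (E.X i)) →
      DCoh.VanishesOutside E (b + 1 - k) b →
      ∀ ψ : DerivedCategory.Q.obj E ⟶ DerivedCategory.Q.obj J, ∃ β : E ⟶ J, DerivedCategory.Q.map β = ψ
  | 0, E, _, hv, ψ => by
    refine ⟨0, ?_⟩
    have hz : IsZero E := by
      rw [IsZero.iff_id_eq_zero]
      exact HomologicalComplex.Hom.ext (funext fun i => (hv i (by omega)).eq_of_src _ _)
    exact (DerivedCategory.Q.map_isZero hz).eq_of_src _ _
  | k + 1, E, hq, hv, ψ => by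
    let a : ℤ := b - k
    have hlow : ∀ i, i < a → IsZero (E.X i) := fun i hi => hv i (Or.inl (by omega))
    let E' := KFlatLib.stupidGE E (a + 1)
    let ι' : E' ⟶ E := KFlatLib.stupidGEι E (a + 1)
    have hι : ∀ i, a + 1 ≤ i → IsIso (ι'.f i) := fun i hi => KFlatLib.isIso_stupidι E (a + 1) hi
    have hq' : ∀ i, Coh.IsQCoh (E'.X i) := fun i => by
      by_cases hi : a + 1 ≤ i
      · exact (QCoh.isQCoh_iff_iso (eqToIso (KFlatLib.stupidX_eq E _ hi))).2 (hq i)
      · exact KFlatLib.isQCoh_of_isZero (KFlatLib.isZero_stupidX E _ hi)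
    have hv' : DCoh.VanishesOutside E' (b + 1 - k) b := fun i hi => by
      by_cases hn : a + 1 ≤ i
      · exact (hv i (by omega)).of_iso (eqToIso (KFlatLib.stupidX_eq E _ hn))
      · exact KFlatLib.isZero_stupidX E _ hn
    obtain ⟨β', hβ'⟩ := exists_map_of_bounded hd J a₀ hJ b k E' hq' hv' (DerivedCategory.Q.map ι' ≫ ψ)
    haveI := hι (a + 1) le_rfl
    haveI := hι (a + 1 + 1) (by omega)
    let t₁ : H6DR.Acy.Z (E.X a) E' (a + 1) := ⟨E.d a (a + 1) ≫ inv (ι'.f (a + 1)), by
      show (E.d a (a + 1) ≫ inv (ι'.f (a + 1))) ≫ E'.d (a + 1) (a + 1 + 1) = 0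
      rw [← cancel_mono (ι'.f (a + 1 + 1)), zero_comp, Category.assoc, ← ι'.comm, Category.assoc,
        IsIso.inv_hom_id_assoc, E.d_comp_d]⟩
    have h0 : H6DR.Acy.classMap (E.X a) E (a + 1) (H6DR.Acy.Zmap (E.X a) ι' (a + 1) t₁) = 0 := by
      have key : ∀ (m : ℤ) (hm : m = a), ∃ w : E.X a ⟶ E.X m,
          w ≫ E.d m (a + 1) = E.d a (a + 1) := by
        rintro m rfl
        exact ⟨𝟙 _, Category.id_comp _⟩
      obtain ⟨w, hw⟩ := key (a + 1 - 1) (by omega)
      refine classMap_eq_zero_of_boundary _ _ _ _ w (hw.trans ?_)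
      show _ = (E.d a (a + 1) ≫ inv (ι'.f (a + 1))) ≫ ι'.f (a + 1)
      simp
    have h1 : H6DR.Acy.classMap (E.X a) J (a + 1) (H6DR.Acy.Zmap (E.X a) β' (a + 1) t₁) = 0 := by
      rw [H6DR.Acy.classMap_map, hβ', Functor.map_comp, ← Category.assoc, ← H6DR.Acy.classMap_map, h0,
        zero_comp]
    obtain ⟨w, hw⟩ : ∃ w : E.X a ⟶ J.X a,
        w ≫ J.d a (a + 1) = (E.d a (a + 1) ≫ inv (ι'.f (a + 1))) ≫ β'.f (a + 1) := by
      have key : ∀ (m : ℤ), m = a → (∃ w : E.X a ⟶ J.X m,
          w ≫ J.d m (a + 1) = (E.d a (a + 1) ≫ inv (ι'.f (a + 1))) ≫ β'.f (a + 1)) →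
          ∃ w : E.X a ⟶ J.X a,
            w ≫ J.d a (a + 1) = (E.d a (a + 1) ≫ inv (ι'.f (a + 1))) ≫ β'.f (a + 1) := by
        rintro m rfl h
        exact h
      exact key (a + 1 - 1) (by omega) (((H6DR.Acy.classMap_bijective_aux (E.X a) J a₀
        (fun p q hn => hJ.subsingleton_ext hd (hq a) p q hn) (a + 1)).2 _).1 h1)
    let β₁ : E ⟶ J :=
      { f := fun i => if hi : a + 1 ≤ i then (haveI := hι i hi; inv (ι'.f i) ≫ β'.f i)
          else if h' : i = a then eqToHom (by rw [h']) ≫ w ≫ eqToHom (by rw [h']) else 0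
        comm' := fun i j hij => by
          have hij' : i + 1 = j := hij
          subst hij'
          by_cases hi : a + 1 ≤ i
          · haveI := hι i hi
            haveI := hι (i + 1) (by omega)
            rw [dif_pos hi, dif_pos (by omega : a + 1 ≤ i + 1), ← cancel_epi (ι'.f i)]
            simp
          · by_cases h' : i = a
            · subst h'
              rw [dif_neg hi, dif_pos rfl, dif_pos (le_refl (a + 1))]
              simp [hw]
            · exact (hlow i (by omega)).eq_of_src _ _ }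
    have hβ₁ : ι' ≫ β₁ = β' := HomologicalComplex.Hom.ext (funext fun i => by
      by_cases hi : a + 1 ≤ i
      · haveI := hι i hi
        show ι'.f i ≫ dite _ _ _ = _
        rw [dif_pos hi, IsIso.hom_inv_id_assoc]
      · exact (KFlatLib.isZero_stupidX E (a + 1) hi).eq_of_src _ _)
    let g : E ⟶ (HomologicalComplex.single X.Modules (ComplexShape.up ℤ) a).obj (E.X a) :=
      HomologicalComplex.mkHomToSingle (𝟙 _) (fun i hi => by
        have hi' : i + 1 = a := hi
        rw [(hlow i (by omega)).eq_of_src (E.d i a) 0, zero_comp])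
    have wS : ι' ≫ g = 0 := by
      refine HomologicalComplex.Hom.ext (funext fun i => ?_)
      by_cases h' : i = a
      · exact (KFlatLib.isZero_stupidX E (a + 1) (by omega)).eq_of_src _ _
      · exact (HomologicalComplex.isZero_single_obj_X (ComplexShape.up ℤ) a _ i h').eq_of_tgt _ _
    let S := ShortComplex.mk _ _ wS
    have hS : S.ShortExact := HomologicalComplex.shortExact_of_degreewise_shortExact _ fun i => by
      rcases eq_or_ne i a with h' | h'
      · subst h'
        have z0 : IsZero (S.X₁.X a) := KFlatLib.isZero_stupidX E (a + 1) (by omega)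
        haveI : IsIso (g.f a) := by
          simp only [g, HomologicalComplex.mkHomToSingle_f]
          infer_instance
        haveI : Mono ((S.map (HomologicalComplex.eval X.Modules (ComplexShape.up ℤ) a)).f) :=
          ⟨fun u v _ => z0.eq_of_tgt u v⟩
        haveI : Epi ((S.map (HomologicalComplex.eval X.Modules (ComplexShape.up ℤ) a)).g) :=
          inferInstanceAs (Epi (g.f a))
        refine ShortComplex.ShortExact.mk' ?_ inferInstance inferInstance
        exact (ShortComplex.exact_iff_mono _ (z0.eq_of_src _ _)).2 (inferInstanceAs (Mono (g.f a)))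
      · have z0 : IsZero (S.X₃.X i) :=
          HomologicalComplex.isZero_single_obj_X (ComplexShape.up ℤ) a _ i h'
        haveI : IsIso (ι'.f i) := by
          by_cases hi : a + 1 ≤ i
          · exact hι i hi
          · exact ⟨0, (KFlatLib.isZero_stupidX E (a + 1) hi).eq_of_src _ _,
              (hlow i (by omega)).eq_of_src _ _⟩
        haveI : Mono ((S.map (HomologicalComplex.eval X.Modules (ComplexShape.up ℤ) i)).f) :=
          inferInstanceAs (Mono (ι'.f i))
        haveI : Epi ((S.map (HomologicalComplex.eval X.Modules (ComplexShape.up ℤ) i)).g) :=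
          ⟨fun u v _ => z0.eq_of_src u v⟩
        refine ShortComplex.ShortExact.mk' ?_ inferInstance inferInstance
        exact (ShortComplex.exact_iff_epi _ (z0.eq_of_tgt _ _)).2 (inferInstanceAs (Epi (ι'.f i)))
    obtain ⟨ε, hε⟩ : ∃ ε : DerivedCategory.Q.obj S.X₃ ⟶ DerivedCategory.Q.obj J,
        ψ - DerivedCategory.Q.map β₁ = DerivedCategory.Q.map g ≫ ε :=
      Pretriangulated.Triangle.yoneda_exact₂ _ (DerivedCategory.triangleOfSES_distinguished hS)
        (ψ - DerivedCategory.Q.map β₁) (by
          show DerivedCategory.Q.map ι' ≫ (ψ - DerivedCategory.Q.map β₁) = 0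
          rw [Preadditive.comp_sub, ← Functor.map_comp, hβ₁, hβ', sub_self])
    let eS : sgl (E.X a) a ≅ (HomologicalComplex.single X.Modules (ComplexShape.up ℤ) a).obj (E.X a) :=
      ((CochainComplex.singleFunctors X.Modules).shiftIso (-a) a 0 (by omega)).app (E.X a)
    obtain ⟨χ, hχ⟩ := exists_map_of_sgl hd J a₀ hJ (hq a) a (DerivedCategory.Q.map eS.hom ≫ ε)
    refine ⟨β₁ + g ≫ eS.inv ≫ χ, ?_⟩
    rw [Functor.map_add, Functor.map_comp, Functor.map_comp, hχ, ← Functor.map_comp_assoc DerivedCategory.Q eS.inv,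
      Iso.inv_hom_id, CategoryTheory.Functor.map_id, Category.id_comp, ← hε]
    abel

/-- The mapping cone of a map of strictly perfect complexes. -/
theorem isStrictlyPerfect_cone {E F : CochainComplex X.Modules ℤ} (φ : E ⟶ F)
    (hE : DCoh.IsStrictlyPerfect E) (hF : DCoh.IsStrictlyPerfect F) :
    DCoh.IsStrictlyPerfect (CochainComplex.mappingCone φ) := by
  obtain ⟨⟨a, b, hE⟩, hEf⟩ := hE
  obtain ⟨⟨c, d, hF⟩, hFf⟩ := hF
  refine ⟨⟨min (a - 1) c, max (b - 1) d, fun i hi => (CochainComplex.mappingCone.isZero_X_iff φ i).mpr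
    ⟨hE _ (by omega), hF _ (by omega)⟩⟩, fun i => ?_⟩
  haveI := HomologicalComplex.HasHomotopyCofiber.hasBinaryBiproduct φ i (i + 1) rfl
  exact H23.PullPush.isFinLocFree_of_iso (HomologicalComplex.homotopyCofiber.XIsoBiprod φ i (i + 1) rfl).symm
    (KFlatLib.isFinLocFree_biprod (hEf _) (hFf _))

end Groth.Agent.H6RP
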