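import Groth.Agent.H6RP.Roof
import Mathlib.CategoryTheory.Localization.Predicate
import Mathlib.Algebra.Homology.HomotopyCofiber

/-!
# Perfect objects as a localization of strictly perfect complexes
-/

set_option autoImplicit false
set_option linter.style.haveILetI false
set_option backward.isDefEq.respectTransparency false
set_option backward.isDefEq.respectTransparency.types false
set_option maxHeartbeats 400000

universe u

open CategoryTheory CategoryTheory.Limits AlgebraicGeometry

noncomputable section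

namespace Groth.Agent.H6RP

open Groth.Agent

attribute [local instance] HasDerivedCategory.standard

variable {X : Scheme.{u}}

/-- Strictly perfect complexes. -/
abbrev SP (X : Scheme.{u}) :=
  ObjectProperty.FullSubcategory (fun E : CochainComplex X.Modules ℤ => DCoh.IsStrictlyPerfect E)

/-- Quasi-isomorphisms of strictly perfect complexes. -/
abbrev spW (X : Scheme.{u}) : MorphismProperty (SP X) :=
  (HomologicalComplex.quasiIso X.Modules (ComplexShape.up ℤ)).inverseImage
    (ObjectProperty.ι (fun E : CochainComplex X.Modules ℤ => DCoh.IsStrictlyPerfect E))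

theorem isStrictlyPerfect_biprod {E F : CochainComplex X.Modules ℤ} (hE : DCoh.IsStrictlyPerfect E)
    (hF : DCoh.IsStrictlyPerfect F) : DCoh.IsStrictlyPerfect (E ⊞ F) := by
  obtain ⟨⟨a, b, hE⟩, hEf⟩ := hE
  obtain ⟨⟨c, d, hF⟩, hFf⟩ := hF
  refine ⟨⟨min a c, max b d, fun i hi => ?_⟩, fun i => H23.PullPush.isFinLocFree_of_iso
    (HomologicalComplex.biprodXIso E F i).symm (KFlatLib.isFinLocFree_biprod (hEf i) (hFf i))⟩
  refine IsZero.of_iso ?_ (HomologicalComplex.biprodXIso E F i)
  rw [IsZero.iff_id_eq_zero]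
  exact biprod.hom_ext _ _ ((hE i (by omega)).eq_of_tgt _ _) ((hF i (by omega)).eq_of_tgt _ _)

/-- Homotopic maps have the same image in the localization. -/
theorem Q_map_eq_of_homotopy {E F : SP X} (f f' : E ⟶ F) (h : Homotopy f.hom f'.hom) :
    (spW X).Q.map f = (spW X).Q.map f' := by
  let C : SP X := ⟨E.obj.cylinder, isStrictlyPerfect_cone _ E.property
    (isStrictlyPerfect_biprod E.property E.property)⟩
  let π : C ⟶ E := ObjectProperty.homMk (HomologicalComplex.cylinder.π E.obj)
  let i₀ : E ⟶ C := ObjectProperty.homMk (HomologicalComplex.cylinder.ι₀ E.obj)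
  let i₁ : E ⟶ C := ObjectProperty.homMk (HomologicalComplex.cylinder.ι₁ E.obj)
  let k : C ⟶ F := ObjectProperty.homMk (HomologicalComplex.cylinder.desc f.hom f'.hom h)
  have hc : ∀ j : ℤ, ∃ i, (ComplexShape.up ℤ).Rel i j := fun j => ⟨j - 1, by simp⟩
  have hπ : spW X π := by
    show QuasiIso (HomologicalComplex.cylinder.π E.obj)
    exact inferInstanceAs (QuasiIso (HomologicalComplex.cylinder.homotopyEquiv E.obj hc).hom)
  haveI : IsIso ((spW X).Q.map π) := (spW X).Q_inverts π hπ
  have h₀ : i₀ ≫ π = 𝟙 E := ObjectProperty.hom_ext _ (HomologicalComplex.cylinder.ι₀_π _)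
  have h₁ : i₁ ≫ π = 𝟙 E := ObjectProperty.hom_ext _ (HomologicalComplex.cylinder.ι₁_π _)
  have h01 : (spW X).Q.map i₀ = (spW X).Q.map i₁ := by
    rw [← cancel_mono ((spW X).Q.map π), ← Functor.map_comp, ← Functor.map_comp, h₀, h₁]
  have hf : i₀ ≫ k = f := ObjectProperty.hom_ext _ (HomologicalComplex.cylinder.ι₀_desc _ _ h)
  have hf' : i₁ ≫ k = f' := ObjectProperty.hom_ext _ (HomologicalComplex.cylinder.ι₁_desc _ _ h)
  rw [← hf, ← hf', Functor.map_comp, Functor.map_comp, h01]

variable [CompactSpace X] [QuasiSeparatedSpace X] (hX : PerfAux.HasResolutionProperty X)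

include hX in
/-- Maps with the same image in the derived category agree in the localization. -/
theorem Q_map_eq_of_D {E F : SP X} (f f' : E ⟶ F)
    (h : DerivedCategory.Q.map f.hom = DerivedCategory.Q.map f'.hom) :
    (spW X).Q.map f = (spW X).Q.map f' := by
  obtain ⟨G, γ, hG, hγ, ⟨H⟩⟩ := exists_homotopy hX E.obj F.obj E.property F.property f.hom f'.hom h
  let γ' : (⟨G, hG⟩ : SP X) ⟶ E := ObjectProperty.homMk γ
  haveI : IsIso ((spW X).Q.map γ') := (spW X).Q_inverts γ' hγ
  rw [← cancel_epi ((spW X).Q.map γ'), ← Functor.map_comp, ← Functor.map_comp]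
  exact Q_map_eq_of_homotopy (γ' ≫ f) (γ' ≫ f') H

include hX in
/-- Roofs in the category of strictly perfect complexes. -/
theorem exists_sp_roof {E F : SP X} (φ : DerivedCategory.Q.obj E.obj ⟶ DerivedCategory.Q.obj F.obj) :
    ∃ (G : SP X) (g : G ⟶ E) (h : G ⟶ F), spW X g ∧
      DerivedCategory.Q.map g.hom ≫ φ = DerivedCategory.Q.map h.hom := by
  obtain ⟨G, g, h, hG, hg, he⟩ := exists_roof hX E.obj F.obj E.property F.property φ
  exact ⟨⟨G, hG⟩, ObjectProperty.homMk g, ObjectProperty.homMk h, hg, he⟩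

/-- Morphisms of the localization given by roofs. -/
def roofs (X : Scheme.{u}) : MorphismProperty (spW X).Localization := fun A B f =>
  ∃ (G : SP X) (g : G ⟶ A.as.obj) (h : G ⟶ B.as.obj), spW X g ∧ (spW X).Q.map g ≫ f = (spW X).Q.map h

include hX in
theorem roofs_eq_top : roofs X = ⊤ := by
  haveI : (roofs X).IsStableUnderComposition := ⟨fun {A B C} f f' ⟨G, g, h, hg, he⟩ ⟨G', g', h', hg', he'⟩ => by
    haveI : QuasiIso g'.hom := hg'
    obtain ⟨G'', a, b, ha, hab⟩ := exists_sp_roof hX
      (DerivedCategory.Q.map h.hom ≫ inv (DerivedCategory.Q.map g'.hom))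
    have heq : (spW X).Q.map (a ≫ h) = (spW X).Q.map (b ≫ g') := Q_map_eq_of_D hX _ _ (by
      show DerivedCategory.Q.map (a.hom ≫ h.hom) = DerivedCategory.Q.map (b.hom ≫ g'.hom)
      rw [Functor.map_comp, Functor.map_comp, ← hab]
      simp)
    refine ⟨G'', a ≫ g, b ≫ h', ?_, ?_⟩
    · haveI : QuasiIso a.hom := ha
      haveI : QuasiIso g.hom := hg
      exact (inferInstance : QuasiIso (a.hom ≫ g.hom))
    · rw [Functor.map_comp, Category.assoc, reassoc_of% he, ← Functor.map_comp_assoc, heq,
        Functor.map_comp_assoc, he', Functor.map_comp]⟩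
  refine Localization.Construction.morphismProperty_eq_top _ (fun A B f => ?_) fun A B w hw => ?_
  · refine ⟨A, 𝟙 A, f, ?_, ?_⟩
    · exact (inferInstance : QuasiIso (𝟙 A.obj))
    · rw [CategoryTheory.Functor.map_id]
      exact Category.id_comp _
  · refine ⟨A, w, 𝟙 A, hw, ?_⟩
    rw [CategoryTheory.Functor.map_id]
    exact (Localization.Construction.wIso w hw).hom_inv_id

include hX in
/-- A perfect object functor on strictly perfect complexes is a localization. -/
theorem isLocalization_perfect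
    (h : ∀ E : SP X, DCoh.IsPerfect ((ObjectProperty.ι _ ⋙ DerivedCategory.Q).obj E)) :
    (ObjectProperty.lift (fun K : DCoh.D X => DCoh.IsPerfect K)
      (ObjectProperty.ι (fun E : CochainComplex X.Modules ℤ => DCoh.IsStrictlyPerfect E) ⋙
        DerivedCategory.Q) h).IsLocalization (spW X) := by
  let L := ObjectProperty.lift (fun K : DCoh.D X => DCoh.IsPerfect K)
      (ObjectProperty.ι (fun E : CochainComplex X.Modules ℤ => DCoh.IsStrictlyPerfect E) ⋙
        DerivedCategory.Q) h
  have hinv : (spW X).IsInvertedBy L := fun A B f hf => by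
    haveI : QuasiIso f.hom := hf
    haveI : IsIso ((ObjectProperty.ι (fun K : DCoh.D X => DCoh.IsPerfect K)).map (L.map f)) :=
      inferInstanceAs (IsIso (DerivedCategory.Q.map f.hom))
    exact isIso_of_reflects_iso _ (ObjectProperty.ι (fun K : DCoh.D X => DCoh.IsPerfect K))
  let F := Localization.Construction.lift L hinv
  have hF : ∀ {A B : SP X} (f : A ⟶ B), F.map ((spW X).Q.map f) = L.map f := fun f => rfl
  have htop : ∀ {A B : (spW X).Localization} (f : A ⟶ B), roofs X f := fun f => by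
    rw [roofs_eq_top hX]
    trivial
  refine ⟨hinv, { faithful := ⟨fun {A B f f'} hff => ?_⟩, full := ⟨fun {A B} φ => ?_⟩, essSurj := ⟨fun K => ?_⟩ }⟩
  · obtain ⟨G₁, g₁, h₁, hg₁, he₁⟩ := htop f
    obtain ⟨G₂, g₂, h₂, hg₂, he₂⟩ := htop f'
    haveI : QuasiIso g₂.hom := hg₂
    obtain ⟨G, a, b, ha, hab⟩ := exists_sp_roof hX
      (DerivedCategory.Q.map g₁.hom ≫ inv (DerivedCategory.Q.map g₂.hom))
    have hD : DerivedCategory.Q.map (a ≫ g₁).hom = DerivedCategory.Q.map (b ≫ g₂).hom := by
      show DerivedCategory.Q.map (a.hom ≫ g₁.hom) = DerivedCategory.Q.map (b.hom ≫ g₂.hom)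
      rw [Functor.map_comp, Functor.map_comp, ← hab]
      simp
    have heq := Q_map_eq_of_D hX _ _ hD
    haveI : IsIso ((spW X).Q.map a) := (spW X).Q_inverts a ha
    haveI : IsIso ((spW X).Q.map g₁) := (spW X).Q_inverts g₁ hg₁
    haveI : IsIso ((spW X).Q.map (a ≫ g₁)) := by rw [Functor.map_comp]; infer_instance
    apply (cancel_epi ((spW X).Q.map (a ≫ g₁))).1
    have e₁ : (spW X).Q.map (a ≫ g₁) ≫ f = (spW X).Q.map (a ≫ h₁) := by
      rw [Functor.map_comp, Category.assoc, he₁, Functor.map_comp]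
    have e₂ : (spW X).Q.map (a ≫ g₁) ≫ f' = (spW X).Q.map (b ≫ h₂) := by
      rw [heq, Functor.map_comp, Category.assoc, he₂, Functor.map_comp]
    refine e₁.trans ((Q_map_eq_of_D hX _ _ ?_).trans e₂.symm)
    have k₁ := congrArg F.map e₁
    have k₂ := congrArg F.map e₂
    rw [Functor.map_comp] at k₁ k₂
    have hff' : F.map f = F.map f' := hff
    rw [hff'] at k₁
    have k : L.map (a ≫ h₁) = L.map (b ≫ h₂) := (hF _).symm.trans ((k₁.symm.trans k₂).trans (hF _))
    exact congrArg (fun t => t.hom) k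
  · obtain ⟨G, g, k, hg, hgk⟩ := exists_sp_roof hX (E := A.as.obj) (F := B.as.obj) φ.hom
    refine ⟨(Localization.Construction.wIso g hg).inv ≫ (spW X).Q.map k, ?_⟩
    show F.map ((Localization.Construction.wIso g hg).inv ≫ (spW X).Q.map k) = φ
    haveI : IsIso (L.map g) := hinv g hg
    rw [← cancel_epi (L.map g)]
    refine Eq.trans ?_ (ObjectProperty.hom_ext _ hgk.symm : L.map k = L.map g ≫ φ)
    rw [← hF g, ← Functor.map_comp]
    exact congrArg F.map ((Localization.Construction.wIso g hg).hom_inv_id_assoc _)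
  · obtain ⟨E, hE, ⟨e⟩⟩ := exists_strictlyPerfect_rep hX K.obj K.property
    exact ⟨(spW X).Q.obj ⟨E, hE⟩, ⟨ObjectProperty.isoMk _ e⟩⟩

end Groth.Agent.H6RP
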