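import Groth.Agent.H6RP.QCohRep
import Groth.Agent.QCoh.AlgGen
import Groth.Agent.QCoh.Support
import Groth.Agent.QCoh.LocFree
import Groth.Agent.KFlatLib.Perfect.LocFree
import Groth.Agent.KFlatLib.Perfect.Amplitude
import Groth.Agent.KFlatLib.Scheme.EvalPerfect
import Groth.Agent.PCohLib.Steps
import Groth.Agent.DQGen.Basic
import Groth.Agent.KFlatLib.Scheme.TildePC
import Groth.Agent.S1009
import Groth.Prelude.Def_PerfAux

/-!
# Strictly perfect approximations under the resolution property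
-/

set_option autoImplicit false
set_option linter.style.haveILetI false
set_option backward.isDefEq.respectTransparency false
set_option backward.isDefEq.respectTransparency.types false
set_option maxHeartbeats 400000

universe u

open CategoryTheory CategoryTheory.Limits AlgebraicGeometry CategoryTheory.Pretriangulated ZeroObject

noncomputable section

namespace Groth.Agent.H6RP

open Groth.Agent HomologicalComplex

attribute [local instance] HasDerivedCategory.standard

variable {X : Scheme.{u}}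

/-- Finite locally free modules surject onto quotients of finite type of quasi-coherent modules. -/
theorem exists_flf_epi_comp [CompactSpace X] [QuasiSeparatedSpace X] (hX : PerfAux.HasResolutionProperty X)
    {G H : X.Modules} (hG : Coh.IsQCoh G) (hH : Coh.IsQCoh H) (hft : CohB1.IsFT H) (p : G ⟶ H) [Epi p] :
    ∃ (E : X.Modules) (l : E ⟶ G), FlatMod.IsFinLocFree E ∧ Epi (l ≫ p) := by
  classical
  obtain ⟨F, hF⟩ := isCompact_univ.elim_finite_subcover (fun V : X.affineOpens => (V.1 : Set X))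
    (fun V => V.1.2) fun x _ => by
      obtain ⟨_, ⟨V, hV, rfl⟩, hxV, -⟩ := X.isBasis_affineOpens.exists_subset_of_mem_open
        (Set.mem_univ x) isOpen_univ
      exact Set.mem_iUnion.2 ⟨⟨V, hV⟩, hxV⟩
  let U : F → X.Opens := fun V => V.1.1
  have hU : ∀ i, IsAffineOpen (U i) := fun V => V.1.2
  have hT : ∀ i, ∃ T : Set Γ(G, U i), T.Finite ∧
      Submodule.span Γ(X, U i) ((fun t => p.app (U i) t) '' T) = ⊤ := fun i => by
    haveI := QCoh.finite_of_isFT hH hft (hU i)
    obtain ⟨S, hS⟩ := Module.Finite.fg_top (R := Γ(X, U i)) (M := Γ(H, U i))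
    choose g hg using fun s : Γ(H, U i) => QCoh.app_surjective_of_epi hG hH p (hU i) s
    refine ⟨g '' (S : Set Γ(H, U i)), S.finite_toSet.image g, ?_⟩
    rw [Set.image_image]
    simp only [hg, Set.image_id']
    exact hS
  choose T hTfin hTspan using hT
  choose N hN hTN using fun i =>
    QCoh.exists_ftOn_contains hG (hU i) (QCoh.extStep_qcqs (hU i).isCompact) (T i) (hTfin i)
  let S := QCoh.sumSub N
  have hft' := QCoh.ftOn_sumSub N hN
  obtain ⟨E, π, hE, hπ⟩ := hX S.toModules (QCoh.isQCoh_of_ftOn hG hft') (QCoh.isFT_of_ftOn hG hft')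
  haveI := hπ
  refine ⟨E, π ≫ S.ι, hE, ?_⟩
  haveI : Epi (S.ι ≫ p) := by
    have hC : Coh.IsQCoh (cokernel (S.ι ≫ p)) := QCoh.isQCoh_cokernel (QCoh.isQCoh_of_ftOn hG hft') hH _
    refine Preadditive.epi_of_isZero_cokernel _ (QCoh.isZero_of_cover hC U hU (fun x => ?_) fun i => ?_)
    · obtain ⟨V, hV, hxV⟩ := Set.mem_iUnion₂.1 (hF (Set.mem_univ x))
      exact ⟨⟨V, hV⟩, hxV⟩
    · let q := cokernel.π (S.ι ≫ p)
      have h0 : ∀ y : Γ(H, U i), q.app (U i) y = 0 := fun y => by
        have hy : y ∈ Submodule.span Γ(X, U i) ((fun t => p.app (U i) t) '' T i) := hTspan i ▸ trivial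
        induction hy using Submodule.span_induction with
        | mem x hx =>
          obtain ⟨t, ht, rfl⟩ := hx
          obtain ⟨e, he⟩ := S.exists_app_eq (QCoh.le_sumSub N i _ (hTN i ht))
          subst he
          exact congr(($(cokernel.condition (S.ι ≫ p))).app (U i) e)
        | zero => exact map_zero _
        | add x y _ _ hx hy => rw [map_add, hx, hy, add_zero]
        | smul a x _ hx => rw [q.app_smul, hx, smul_zero]
      refine subsingleton_of_forall_eq 0 fun c => ?_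
      obtain ⟨y, rfl⟩ := QCoh.app_surjective_of_epi hH hC q (hU i) c
      exact h0 y
  rw [Category.assoc]
  infer_instance

theorem isPerfect_of_isStrictlyPerfect {E : CochainComplex X.Modules ℤ} (hE : DCoh.IsStrictlyPerfect E) :
    DCoh.IsPerfect (DCoh.toD X E) :=
  KFlatLib.isPerfect_of_rep (Iso.refl _) fun _ =>
    ⟨⊤, trivial, _, KFlatLib.isStrictlyPerfect_restrict _ hE, ⟨Iso.refl _⟩⟩

theorem isPerfect_mappingCone {E F : CochainComplex X.Modules ℤ} (u : E ⟶ F)
    (hE : DCoh.IsPerfect (DCoh.toD X E)) (hF : DCoh.IsPerfect (DCoh.toD X F)) :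
    DCoh.IsPerfect (DCoh.toD X (CochainComplex.mappingCone u)) :=
  (KFlatLib.isPerfect_iff _).2 (KFlatLib.locSP_obj₃ _
    (DerivedCategory.mappingCone_triangle_distinguished u)
    ((KFlatLib.isPerfect_iff _).1 hE) ((KFlatLib.isPerfect_iff _).1 hF))

/-- One step of the approximation. -/
theorem exists_step [CompactSpace X] [QuasiSeparatedSpace X] (hX : PerfAux.HasResolutionProperty X)
    {E F : CochainComplex X.Modules ℤ} (hFq : ∀ i, Coh.IsQCoh (F.X i)) (hF : DCoh.IsPerfect (DCoh.toD X F))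
    (n : ℤ) (u : E ⟶ F) (hE : DCoh.IsStrictlyPerfect E) (h : PCohLib.ExactGE u (n + 1)) :
    ∃ (E' : CochainComplex X.Modules ℤ) (u' : E' ⟶ F),
      DCoh.IsStrictlyPerfect E' ∧ PCohLib.ExactGE u' n := by
  let C := CochainComplex.mappingCone u
  have hC := isPerfect_mappingCone u (isPerfect_of_isStrictlyPerfect hE) hF
  let e : DCoh.HD (DCoh.toD X C) n ≅ C.homology n :=
    (DerivedCategory.homologyFunctorFactors X.Modules n).app C
  have hz : ∀ i, n < i → IsZero (DCoh.HD (DCoh.toD X C) i) := fun i hi =>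
    ((exactAt_iff_isZero_homology C i).1 (h i (by omega))).of_iso
      ((DerivedCategory.homologyFunctorFactors X.Modules i).app C)
  have hHq : Coh.IsQCoh (C.homology n) :=
    (QCoh.isQCoh_iff_iso e).1 (DQGen.isQCohD_of_isPerfect hC n)
  have hHft : CohB1.IsFT (C.homology n) := KFlatLib.isFT_of_iso' e
    (KFlatLib.isFT_top (((KFlatLib.isPerfect_iff _).1 hC).locPC n) hz)
  have hCq : ∀ i, Coh.IsQCoh (C.X i) := fun i => by
    haveI := HomologicalComplex.HasHomotopyCofiber.hasBinaryBiproduct u i (i + 1) rfl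
    exact (QCoh.isQCoh_iff_iso (HomologicalComplex.homotopyCofiber.XIsoBiprod u i (i + 1) rfl)).2
      (PCohLib.prop_biprod (P := QCohCat.isQCoh X)
        (fun M N hM hN => (QCohCat.isQCoh X).prop_prod M N hM hN)
        (QCoh.isQCoh_of_isFinLocFree (hE.2 _)) (hFq i))
  have hZq : Coh.IsQCoh (C.cycles n) :=
    (QCoh.isQCoh_iff_iso (IsLimit.conePointUniqueUpToIso (kernelIsKernel (C.d n (n + 1)))
      (C.cyclesIsKernel n (n + 1) (by simp)))).1 (QCoh.isQCoh_kernel (hCq n) (hCq (n + 1)) _)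
  obtain ⟨F', g, hF', hg⟩ := exists_flf_epi_comp hX hZq hHq hHft (C.homologyπ n)
  let T := (HomologicalComplex.single X.Modules (ComplexShape.up ℤ) n).obj F'
  let j : T ⟶ C := HomologicalComplex.mkHomFromSingle (g ≫ C.iCycles n) (fun k _ => by simp)
  have hjn : (HomologicalComplex.singleObjCyclesSelfIso (ComplexShape.up ℤ) n F').inv ≫ cyclesMap j n = g := by
    rw [← cancel_mono (C.iCycles n)]
    simp [j, T]
  haveI : Epi (homologyMap j n) := by
    have h1 : (HomologicalComplex.singleObjCyclesSelfIso (ComplexShape.up ℤ) n F').inv ≫ T.homologyπ n ≫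
        homologyMap j n = g ≫ C.homologyπ n := by
      rw [homologyπ_naturality, reassoc_of% hjn]
    haveI : Epi (((HomologicalComplex.singleObjCyclesSelfIso (ComplexShape.up ℤ) n F').inv ≫ T.homologyπ n) ≫
        homologyMap j n) := by rw [Category.assoc, h1]; exact hg
    exact epi_of_epi ((HomologicalComplex.singleObjCyclesSelfIso (ComplexShape.up ℤ) n F').inv ≫ T.homologyπ n) _
  have hTz : ∀ i, i ≠ n → IsZero (T.X i) := fun i hi => HomologicalComplex.isZero_single_obj_X _ _ _ _ hi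
  have hTf : ∀ i, FlatMod.IsFinLocFree (T.X i) := fun i => by
    by_cases hi : i = n
    · subst hi
      exact H23.PullPush.isFinLocFree_of_iso (HomologicalComplex.singleObjXSelf _ i F').symm hF'
    · exact KFlatLib.isFinLocFree_of_isZero (hTz i hi)
  refine ⟨PCohLib.Ext.cx u j, PCohLib.Ext.map u j, ?_, ?_⟩
  · obtain ⟨⟨a, b, hab⟩, hflf⟩ := hE
    refine ⟨⟨min a n, max b n, fun i hi => ?_⟩, fun i => KFlatLib.isFinLocFree_biprod (hflf i) (hTf i)⟩
    show IsZero (E.X i ⊞ T.X i)
    rw [IsZero.iff_id_eq_zero]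
    exact biprod.hom_ext _ _ ((hab i (by omega)).eq_of_tgt _ _) ((hTz i (by omega)).eq_of_tgt _ _)
  · rw [PCohLib.Ext.exactGE_map_iff, PCohLib.exactGE_iff]
    refine ⟨fun i hi => ?_, inferInstance⟩
    exact ⟨⟨0, ((exactAt_iff_isZero_homology _ _).mp (PCohLib.exactAt_of_isZero (hTz i (by omega)))).eq_of_src _ _,
      ((exactAt_iff_isZero_homology _ _).mp (h i (by omega))).eq_of_src _ _⟩⟩

/-- Iterating the steps. -/
theorem exists_down [CompactSpace X] [QuasiSeparatedSpace X] (hX : PerfAux.HasResolutionProperty X)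
    {F : CochainComplex X.Modules ℤ} (hFq : ∀ i, Coh.IsQCoh (F.X i)) (hF : DCoh.IsPerfect (DCoh.toD X F))
    (n : ℤ) : ∀ (k : ℕ) {E : CochainComplex X.Modules ℤ} (u : E ⟶ F),
    DCoh.IsStrictlyPerfect E → PCohLib.ExactGE u (n + k) →
      ∃ (E' : CochainComplex X.Modules ℤ) (u' : E' ⟶ F),
        DCoh.IsStrictlyPerfect E' ∧ PCohLib.ExactGE u' n
  | 0, E, u, hE, h => ⟨E, u, hE, h.mono (by simp)⟩
  | k + 1, E, u, hE, h => by
    obtain ⟨E₁, u₁, hE₁, h₁⟩ := exists_step hX hFq hF (n + k) u hE (h.mono (by omega))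
    exact exists_down hX hFq hF n k u₁ hE₁ h₁

/-- Bounds for a perfect object on a quasi-compact scheme. -/
theorem exists_bounds [CompactSpace X] {K : DCoh.D X} (hK : DCoh.IsPerfect K) :
    ∃ a b : ℤ, (∀ x : X, ∃ (U : Scheme.{u}) (j : U ⟶ X) (_ : IsOpenImmersion j), x ∈ Set.range j.base ∧
      DCoh.HasFlatAmplitudeIn a b ((KFlatLib.rho j).obj K)) ∧
      ∀ i, i < a ∨ b < i → IsZero (DCoh.HD K i) := by
  classical
  choose U j hj hx P hP he using (KFlatLib.isPerfect_iff K).1 hK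
  choose a b hab using fun x => (hP x).1
  haveI := hj
  obtain ⟨t, ht⟩ := isCompact_univ.elim_finite_subcover (fun x => ((j x).opensRange : Set X))
    (fun x => (j x).opensRange.2) fun x _ => Set.mem_iUnion.2 ⟨x, hx x⟩
  obtain ⟨A, hA⟩ := (t.finite_toSet.image a).bddBelow
  obtain ⟨B, hB⟩ := (t.finite_toSet.image b).bddAbove
  have hv : ∀ y ∈ t, DCoh.VanishesOutside (P y) A B := fun y hy i hi => by
    have h1 := hA ⟨y, hy, rfl⟩
    have h2 := hB ⟨y, hy, rfl⟩
    exact hab y i (by omega)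
  refine ⟨A, B, fun x => ?_, fun i hi => KFlatLib.isZero_of_stalk _ fun x => ?_⟩
  · obtain ⟨y, hy, hxy⟩ := Set.mem_iUnion₂.1 (ht (Set.mem_univ x))
    exact ⟨U y, j y, hj y, hxy, P y, hv y hy,
      fun i => KFlatLib.isFlat_of_isFinLocFree ((hP y).2 i), he y⟩
  · obtain ⟨y, hy, u', rfl⟩ := Set.mem_iUnion₂.1 (ht (Set.mem_univ x))
    obtain ⟨e⟩ := he y
    refine KFlatLib.isZero_stalk_of_restrict (j y) u' ((DerSch.stalkFunctor (U y) u').map_isZero ?_)
    exact (ShortComplex.isZero_homology_of_isZero_X₂ _ (hv y hy i hi)).of_iso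
      ((KFlatLib.hdRhoIso (j y) K i).symm ≪≫
        (DerivedCategory.homologyFunctor _ i).mapIso e.symm ≪≫
        (DerivedCategory.homologyFunctorFactors _ i).app _)

/-- A bounded below complex of quasi-coherent modules which is perfect receives a quasi-isomorphism from a
strictly perfect complex. -/
theorem exists_strictlyPerfect_qis [CompactSpace X] [QuasiSeparatedSpace X]
    (hX : PerfAux.HasResolutionProperty X) (F : CochainComplex X.Modules ℤ)
    (hFb : ∃ a : ℤ, ∀ n : ℤ, n < a → IsZero (F.X n)) (hFq : ∀ n : ℤ, Coh.IsQCoh (F.X n))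
    (hF : DCoh.IsPerfect (DCoh.toD X F)) :
    ∃ (E : CochainComplex X.Modules ℤ) (φ : E ⟶ F), DCoh.IsStrictlyPerfect E ∧ QuasiIso φ := by
  obtain ⟨a₀, ha₀⟩ := hFb
  obtain ⟨A, B, hloc, hz⟩ := exists_bounds hF
  let a := min A a₀
  haveI : F.IsStrictlyGE a := by
    rw [CochainComplex.isStrictlyGE_iff]
    exact fun i hi => ha₀ i (by omega)
  let Z : CochainComplex X.Modules ℤ := 0
  have hZ : ∀ i, IsZero (Z.X i) := fun i =>
    Functor.map_isZero (HomologicalComplex.eval X.Modules (ComplexShape.up ℤ) i) (isZero_zero _)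
  obtain ⟨E, u, hE, hu⟩ := exists_down hX hFq hF (a - 1) (B + 1 - (a - 1)).toNat (0 : Z ⟶ F)
    ⟨⟨0, 0, fun i _ => hZ i⟩, fun i => KFlatLib.isFinLocFree_of_isZero (hZ i)⟩
    (PCohLib.exactGE_of_zero _ _ hZ fun i hi => (exactAt_iff_isZero_homology F i).2
      ((hz i (Or.inr (by omega))).of_iso
        ((DerivedCategory.homologyFunctorFactors X.Modules i).app F).symm))
  haveI : CochainComplex.IsGE F a := inferInstance
  haveI hq : QuasiIso (CochainComplex.truncGEMap u a) :=
    (CochainComplex.quasiIso_truncGEMap_iff u a).2 fun i hi =>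
      (quasiIsoAt_iff_isIso_homologyMap u i).2 (((PCohLib.exactGE_iff u _).1 hu).1 i (by omega))
  haveI : IsIso (F.πTruncGE a) := inferInstance
  let φ : E.truncGE a ⟶ F := CochainComplex.truncGEMap u a ≫ inv (F.πTruncGE a)
  have hφ : QuasiIso φ := inferInstanceAs (QuasiIso (CochainComplex.truncGEMap u a ≫ inv (F.πTruncGE a)))
  refine ⟨E.truncGE a, φ, ?_, hφ⟩
  obtain ⟨⟨a₁, b₁, hv⟩, hfl⟩ := hE
  let P' := E.truncGE a
  have hz' : DCoh.VanishesOutside P' a (max a b₁) := by
    rintro i (hi | hi)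
    · exact P'.isZero_of_isStrictlyGE a i hi
    · exact (hv i (Or.inr (by omega))).of_iso (E.truncGEXIso a i (by omega))
  have hflat : ∀ i, a < i → FlatMod.IsFlat (P'.X i) := fun i hi =>
    KFlatLib.IsFlat.of_iso (E.truncGEXIso a i hi).symm (KFlatLib.isFlat_of_isFinLocFree (hfl i))
  let e : DerivedCategory.Q.obj P' ≅ DerivedCategory.Q.obj F :=
    @asIso _ _ _ _ (DerivedCategory.Q.map φ) (KFlatLib.isIso_Q_map _ hφ)
  have htor : DCoh.HasTorAmplitudeIn A B (DCoh.toD X P') := KFlatLib.torAmplitude_of_local _ fun x => by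
    obtain ⟨U, j, _, hx, P, hPv, hPf, ⟨eP⟩⟩ := hloc x
    exact ⟨U, j, inferInstance, hx, KFlatLib.torAmplitude_of_flatAmplitude
      ⟨P, hPv, hPf, ⟨eP ≪≫ (KFlatLib.rho j).mapIso e.symm⟩⟩⟩
  have hbot : FlatMod.IsFlat (P'.X a) := KFlatLib.isFlat_lowest hz' hflat @fun G _ =>
    htor G (a - 1) (Or.inl (by omega))
  let ec₀ := IsColimit.coconePointUniqueUpToIso (cokernelIsCokernel (E.d (a - 1) a))
    (E.opcyclesIsCokernel (a - 1) a (by simp))
  let ec : cokernel (E.d (a - 1) a) ≅ P'.X a := ec₀ ≪≫ (E.truncGEXIsoOpcycles a).symm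
  refine ⟨⟨a, max a b₁, hz'⟩, fun i => ?_⟩
  rcases lt_trichotomy i a with hi | hi | hi
  · exact KFlatLib.isFinLocFree_of_isZero (P'.isZero_of_isStrictlyGE a i hi)
  · rw [hi]
    exact H23.PullPush.isFinLocFree_of_iso ec
      (KFlatLib.isFinLocFree_cokernel _ (hfl _) (hfl _) (KFlatLib.IsFlat.of_iso ec.symm hbot))
  · exact H23.PullPush.isFinLocFree_of_iso (E.truncGEXIso a i hi).symm (hfl i)

/-- Perfect objects are represented by strictly perfect complexes. -/
theorem exists_strictlyPerfect_rep [CompactSpace X] [QuasiSeparatedSpace X]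
    (hX : PerfAux.HasResolutionProperty X) (K : DCoh.D X) (hK : DCoh.IsPerfect K) :
    ∃ E : CochainComplex X.Modules ℤ, DCoh.IsStrictlyPerfect E ∧ Nonempty (DCoh.toD X E ≅ K) := by
  obtain ⟨A, B, -, hz⟩ := exists_bounds hK
  have hge : K.IsGE A := (DerivedCategory.isGE_iff _ _).2 fun i hi => hz i (Or.inl hi)
  have hle : K.IsLE (A + ((B + 1 - A).toNat : ℤ) - 1) :=
    (DerivedCategory.isLE_iff _ _).2 fun i hi => hz i (Or.inr (by omega))
  obtain ⟨J, a, hJa, hJ, ⟨eJ⟩⟩ := hasInjQRep_of_bounded (S1009.result X hX) A _ K hge hle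
    (DQGen.isQCohD_of_isPerfect hK)
  haveI := hJa
  obtain ⟨E, φ, hE, hφ⟩ := exists_strictlyPerfect_qis hX J
    ⟨a, fun n hn => J.isZero_of_isStrictlyGE a n hn⟩ hJ.isQCoh
    (DQGen.isPerfect_of_iso eJ.symm hK)
  exact ⟨E, hE, ⟨@asIso _ _ _ _ (DerivedCategory.Q.map φ) (KFlatLib.isIso_Q_map _ hφ) ≪≫ eJ⟩⟩

end Groth.Agent.H6RP
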