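import Groth.Agent.H6RP.InjAcyclic
import Groth.Agent.H6DR.Acyclic
import Groth.Agent.PCohLib.Induct
import Groth.Agent.KFlatLib.Scheme.QCohD
import Groth.Agent.KFlatLib.Perfect.Top
import Mathlib.Algebra.Homology.Factorizations.CM5a

/-!
# Bounded below complexes of quasi-coherent modules in the derived category
-/

set_option autoImplicit false
set_option linter.style.haveILetI false
set_option backward.isDefEq.respectTransparency false
set_option backward.isDefEq.respectTransparency.types false
set_option maxHeartbeats 400000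

universe u

open CategoryTheory CategoryTheory.Limits AlgebraicGeometry CategoryTheory.Pretriangulated ZeroObject

noncomputable section

namespace Groth.Agent.H6RP

open Groth.Agent

attribute [local instance] HasDerivedCategory.standard

variable {X : Scheme.{u}}

/-- Complexes whose terms are injective quasi-coherent modules. -/
def InjQ (J : CochainComplex X.Modules ℤ) : Prop :=
  ∀ n, ∃ I : QCohCat.QCoh X, Injective I ∧ Nonempty (J.X n ≅ I.obj)

theorem InjQ.isQCoh {J : CochainComplex X.Modules ℤ} (h : InjQ J) (n : ℤ) : Coh.IsQCoh (J.X n) := by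
  obtain ⟨I, -, ⟨e⟩⟩ := h n
  exact (QCoh.isQCoh_iff_iso e).2 I.property

/-- Resolutions by injective quasi-coherent modules. -/
theorem exists_qis_injQ (K : CochainComplex X.Modules ℤ) (a : ℤ) [K.IsStrictlyGE a]
    (hK : ∀ n, Coh.IsQCoh (K.X n)) :
    ∃ (J : CochainComplex X.Modules ℤ) (φ : K ⟶ J), J.IsStrictlyGE a ∧ InjQ J ∧ QuasiIso φ := by
  haveI : EnoughInjectives (QCohCat.QCoh X) := S7445.result X
  let K₀ : CochainComplex (QCohCat.QCoh X) ℤ :=
    { X := fun n => ⟨K.X n, hK n⟩
      d := fun i j => ObjectProperty.homMk (K.d i j)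
      shape := fun i j h => ObjectProperty.hom_ext _ (K.shape i j h)
      d_comp_d' := fun i j k _ _ => ObjectProperty.hom_ext _ (K.d_comp_d i j k) }
  haveI : K₀.IsStrictlyGE a := by
    rw [CochainComplex.isStrictlyGE_iff]
    exact fun i hi => IsZero.of_full_of_faithful_of_isZero (QCohCat.isQCoh X).ι _
      (K.isZero_of_isStrictlyGE a i hi)
  obtain ⟨L, ψ, hψ, hL, hLa⟩ := CochainComplex.Plus.modelCategoryQuillen.exists_quasiIso_injective K₀ a
  let F := (QCohCat.isQCoh X).ι.mapHomologicalComplex (ComplexShape.up ℤ)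
  haveI := hψ
  haveI := hLa
  have hge : CochainComplex.IsStrictlyGE (F.obj L) a := by
    rw [CochainComplex.isStrictlyGE_iff]
    exact fun i hi => (QCohCat.isQCoh X).ι.map_isZero (L.isZero_of_isStrictlyGE a i hi)
  have hq : QuasiIso (F.map ψ) := inferInstance
  exact ⟨F.obj L, F.map ψ, hge, fun n => ⟨L.X n, hL n, ⟨Iso.refl _⟩⟩, hq⟩

theorem InjQ.subsingleton_ext [CompactSpace X]
    (hd : ∀ U V : X.Opens, IsAffineOpen U → IsAffineOpen V → IsAffineOpen (U ⊓ V))
    {J : CochainComplex X.Modules ℤ} (hJ : InjQ J) {M : X.Modules} (hM : Coh.IsQCoh M) (p : ℤ) (n : ℕ)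
    (hn : 0 < n) : Subsingleton (Abelian.Ext M (J.X p) n) := by
  obtain ⟨I, hI, ⟨e⟩⟩ := hJ p
  haveI := hI
  obtain ⟨m, rfl⟩ := Nat.exists_eq_succ_of_ne_zero hn.ne'
  exact H6DR.Acy.subsingleton_ext_of_iso M e _
    (subsingleton_of_forall_eq 0 (ext_inj_eq_zero hd I hM m))

/-- The complex of a module placed in degree `n`. -/
abbrev sgl (M : X.Modules) (n : ℤ) : CochainComplex X.Modules ℤ :=
  ((CochainComplex.singleFunctor X.Modules 0).obj M)⟦-n⟧

/-- Morphisms in the derived category from a quasi-coherent module come from chain maps. -/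
theorem exists_map_of_sgl [CompactSpace X]
    (hd : ∀ U V : X.Opens, IsAffineOpen U → IsAffineOpen V → IsAffineOpen (U ⊓ V))
    (J : CochainComplex X.Modules ℤ) (a : ℤ) [J.IsStrictlyGE a] (hJ : InjQ J) {M : X.Modules}
    (hM : Coh.IsQCoh M) (n : ℤ) (ψ : DerivedCategory.Q.obj (sgl M n) ⟶ DerivedCategory.Q.obj J) :
    ∃ χ : sgl M n ⟶ J, DerivedCategory.Q.map χ = ψ := by
  let P := (CochainComplex.singleFunctor X.Modules 0).obj M
  let e : (sgl M n)⟦n⟧ ≅ P :=
    (shiftFunctorCompIsoId (CochainComplex X.Modules ℤ) (-n) n (by omega)).app P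
  let c := DerivedCategory.Q.commShiftIso (C := CochainComplex X.Modules ℤ) n
  obtain ⟨t, ht⟩ := (H6DR.Acy.classMap_bijective_aux M J a
    (fun p q hq => hJ.subsingleton_ext hd hM p q hq) n).1
      (DerivedCategory.Q.map e.inv ≫ c.hom.app _ ≫ ψ⟦n⟧')
  let φ : P ⟶ J⟦n⟧ := CochainComplex.HomComplex.Cocycle.equivHomShift.symm (H6DR.Acy.cocy M t)
  have h : DerivedCategory.Q.map φ ≫ c.hom.app J = DerivedCategory.Q.map e.inv ≫ c.hom.app _ ≫ ψ⟦n⟧' := ht
  obtain ⟨χ, hχ⟩ := (shiftFunctor (CochainComplex X.Modules ℤ) n).map_surjective (e.hom ≫ φ)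
  refine ⟨χ, (shiftFunctor (DCoh.D X) n).map_injective ?_⟩
  rw [← cancel_epi (c.hom.app (sgl M n))]
  refine (c.hom.naturality χ).symm.trans ?_
  dsimp only [Functor.comp_map]
  rw [hχ, Functor.map_comp, Category.assoc, h, ← Functor.map_comp_assoc, Iso.hom_inv_id,
    CategoryTheory.Functor.map_id, Category.id_comp]

/-- Objects represented by bounded below complexes of injective quasi-coherent modules. -/
def HasInjQRep (K : DCoh.D X) : Prop :=
  ∃ (J : CochainComplex X.Modules ℤ) (a : ℤ), J.IsStrictlyGE a ∧ InjQ J ∧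
    Nonempty (DerivedCategory.Q.obj J ≅ K)

/-- An object with quasi-coherent cohomology in finitely many degrees is represented by a bounded below
complex of injective quasi-coherent modules. -/
theorem hasInjQRep_of_bounded [CompactSpace X]
    (hd : ∀ U V : X.Opens, IsAffineOpen U → IsAffineOpen V → IsAffineOpen (U ⊓ V)) (a : ℤ) :
    ∀ (k : ℕ) (K : DCoh.D X), K.IsGE a → K.IsLE (a + k - 1) → DCoh.IsQCohD K → HasInjQRep K
  | 0, K, h₁, h₂, _ => by
    have hz : IsZero K := DerivedCategory.TStructure.t.isZero K (a + (0 : ℕ) - 1) a (by omega)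
    let Z : CochainComplex X.Modules ℤ := (CochainComplex.singleFunctor X.Modules 0).obj (0 : X.Modules)
    have hZ : ∀ n, IsZero (Z.X n) := fun n =>
      (HomologicalComplex.eval X.Modules (ComplexShape.up ℤ) n).map_isZero
        ((CochainComplex.singleFunctor X.Modules 0).map_isZero (isZero_zero X.Modules))
    refine ⟨Z, 0, (CochainComplex.isStrictlyGE_iff _ _).2 fun i _ => hZ i, fun n => ?_,
      ⟨IsZero.iso (Functor.map_isZero _ (Functor.map_isZero _ (isZero_zero _))) hz⟩⟩
    let O : QCohCat.QCoh X := ⟨Z.X n, KFlatLib.isQCoh_of_isZero (hZ n)⟩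
    exact ⟨O, (IsZero.of_full_of_faithful_of_isZero (QCohCat.isQCoh X).ι O (hZ n)).injective,
      ⟨Iso.refl _⟩⟩
  | k + 1, K, h₁, h₂, hq => by
    haveI := h₁
    haveI := h₂
    obtain ⟨A, B, hA, hB, f, g, d, hT⟩ :=
      Triangulated.TStructure.exists_triangle (t := DerivedCategory.TStructure.t) K (a + k - 1) (a + k) (by omega)
    haveI : A.IsLE (a + k - 1) := ⟨hA⟩
    haveI : B.IsGE (a + k) := ⟨hB⟩
    haveI : A.IsGE a := (DerivedCategory.isGE_iff _ _).mpr fun i hi => by
      have h0 : IsZero ((DerivedCategory.homologyFunctor X.Modules i).obj K) :=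
        DerivedCategory.isZero_of_isGE K a i hi
      have hex := DerivedCategory.HomologySequence.exact₁ _ hT (i - 1) i (by omega)
      exact hex.isZero_X₂ ((DerivedCategory.isZero_of_isGE B (a + k) (i - 1) (by omega)).eq_of_src _ _)
        (h0.eq_of_tgt _ _)
    haveI : B.IsLE (a + k) := (DerivedCategory.isLE_iff _ _).mpr fun i hi => by
      have h0 : IsZero ((DerivedCategory.homologyFunctor X.Modules i).obj K) :=
        DerivedCategory.isZero_of_isLE K (a + ((k + 1 : ℕ) : ℤ) - 1) i (by omega)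
      have hex := DerivedCategory.HomologySequence.exact₃ _ hT i (i + 1) rfl
      exact hex.isZero_X₂ (h0.eq_of_src _ _)
        ((DerivedCategory.isZero_of_isLE A (a + k - 1) (i + 1) (by omega)).eq_of_tgt _ _)
    obtain ⟨Y, ⟨eY⟩⟩ := DerivedCategory.exists_iso_singleFunctor_obj_of_isGE_of_isLE B (a + k)
    have hY : Coh.IsQCoh Y := by
      haveI : Mono ((DerivedCategory.homologyFunctor X.Modules (a + k)).map g) :=
        (DerivedCategory.HomologySequence.mono_homologyMap_mor₂_iff _ hT (a + k)).mpr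
          ((DerivedCategory.isZero_of_isLE A (a + k - 1) (a + k) (by omega)).eq_of_src _ _)
      haveI : Epi ((DerivedCategory.homologyFunctor X.Modules (a + k)).map g) :=
        (DerivedCategory.HomologySequence.epi_homologyMap_mor₂_iff _ hT (a + k) (a + k + 1) rfl).mpr
          ((DerivedCategory.isZero_of_isLE A (a + k - 1) (a + k + 1) (by omega)).eq_of_tgt _ _)
      haveI := isIso_of_mono_of_epi ((DerivedCategory.homologyFunctor X.Modules (a + k)).map g)
      exact (QCoh.isQCoh_iff_iso (asIso ((DerivedCategory.homologyFunctor X.Modules (a + k)).map g) ≪≫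
        (DerivedCategory.homologyFunctor X.Modules (a + k)).mapIso eY ≪≫
        (DerivedCategory.singleFunctorCompHomologyFunctorIso X.Modules (a + k)).app Y)).1 (hq _)
    have hBq : DCoh.IsQCohD B := fun i => by
      by_cases hi : i = a + k
      · subst hi
        exact (QCoh.isQCoh_iff_iso ((DerivedCategory.homologyFunctor X.Modules _).mapIso eY ≪≫
          (DerivedCategory.singleFunctorCompHomologyFunctorIso X.Modules _).app Y)).2 hY
      · exact KFlatLib.isQCoh_of_isZero ((PCohLib.isZero_H_single Y _ i hi).of_iso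
          ((DerivedCategory.homologyFunctor X.Modules i).mapIso eY))
    obtain ⟨J, a', hJa, hJ, ⟨eJ⟩⟩ := hasInjQRep_of_bounded hd a k A inferInstance inferInstance
      (KFlatLib.isQCohD_obj₁ hT hq hBq)
    haveI := hJa
    let S := sgl Y (a + k + 1)
    let b : ℤ := a + k
    let eS : DerivedCategory.Q.obj S ≅ B⟦(-1 : ℤ)⟧ :=
      (DerivedCategory.Q.commShiftIso (-(b + 1))).app _ ≪≫
        (shiftFunctor (DCoh.D X) (-(b + 1))).mapIso
          ((DerivedCategory.singleFunctorIsoCompQ X.Modules 0).app Y).symm ≪≫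
        (shiftFunctorAdd' (DCoh.D X) (-b) (-1) (-(b + 1)) (by omega)).app _ ≪≫
        (shiftFunctor (DCoh.D X) (-1 : ℤ)).mapIso (PCohLib.singleShift Y b ≪≫ eY.symm)
    obtain ⟨χ, hχ⟩ := exists_map_of_sgl hd J a' hJ hY (a + k + 1)
      (eS.hom ≫ (Triangle.mk f g d).invRotate.mor₁ ≫ eJ.inv)
    obtain ⟨e, -, -⟩ := exists_iso_of_arrow_iso _ _
      (DerivedCategory.mappingCone_triangle_distinguished χ) (inv_rot_of_distTriang _ hT)
      (Arrow.isoMk eS eJ (by
        change eS.hom ≫ (Triangle.mk f g d).invRotate.mor₁ = DerivedCategory.Q.map χ ≫ eJ.hom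
        rw [hχ]
        exact ((Category.assoc _ _ _).trans (congrArg (eS.hom ≫ ·) ((Category.assoc _ _ _).trans
          ((congrArg ((Triangle.mk f g d).invRotate.mor₁ ≫ ·) eJ.inv_hom_id).trans
            (Category.comp_id _))))).symm))
    let K' := CochainComplex.mappingCone χ
    have eK : DerivedCategory.Q.obj K' ≅ K := Triangle.π₃.mapIso e
    have hSz : ∀ i, i ≠ a + k + 1 → IsZero (S.X i) := fun i hi => by
      show IsZero (((CochainComplex.singleFunctor X.Modules 0).obj Y).X (i + -(a + k + 1)))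
      exact HomologicalComplex.isZero_single_obj_X (ComplexShape.up ℤ) 0 Y _ (by omega)
    have hSq : ∀ i, Coh.IsQCoh (S.X i) := fun i => by
      by_cases hi : i = a + k + 1
      · subst hi
        refine (QCoh.isQCoh_iff_iso ?_).2 hY
        exact HomologicalComplex.XIsoOfEq ((CochainComplex.singleFunctor X.Modules 0).obj Y) (show a + k + 1 + -(a + k + 1) = 0 by omega) ≪≫
          HomologicalComplex.singleObjXSelf (ComplexShape.up ℤ) 0 Y
      · exact KFlatLib.isQCoh_of_isZero (hSz i hi)
    haveI : K'.IsStrictlyGE (min a' (a + k)) := by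
      rw [CochainComplex.isStrictlyGE_iff]
      exact fun i hi => (CochainComplex.mappingCone.isZero_X_iff χ i).mpr
        ⟨hSz _ (by omega), J.isZero_of_isStrictlyGE a' i (by omega)⟩
    have hK' : ∀ i, Coh.IsQCoh (K'.X i) := fun i => by
      haveI := HomologicalComplex.HasHomotopyCofiber.hasBinaryBiproduct χ i (i + 1) rfl
      exact (QCoh.isQCoh_iff_iso (HomologicalComplex.homotopyCofiber.XIsoBiprod χ i (i + 1) rfl)).2
        (PCohLib.prop_biprod (P := QCohCat.isQCoh X)
          (fun M N hM hN => (QCohCat.isQCoh X).prop_prod M N hM hN) (hSq _) (hJ.isQCoh i))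
    obtain ⟨J', φ, hge, hJ', hφ⟩ := exists_qis_injQ K' (min a' (a + k)) hK'
    haveI := hφ
    exact ⟨J', _, hge, hJ', ⟨(asIso (DerivedCategory.Q.map φ)).symm ≪≫ eK⟩⟩

end Groth.Agent.H6RP
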