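import Groth.Agent.H6RP.Perfect
import Groth.Agent.H6RP.Lift
import Mathlib.Algebra.Homology.HomotopyCategory.Pretriangulated
import Mathlib.Algebra.Homology.HomologicalComplexBiprod

/-!
# Morphisms between strictly perfect complexes in the derived category
-/

set_option autoImplicit false
set_option linter.style.haveILetI false
set_option backward.isDefEq.respectTransparency false
set_option backward.isDefEq.respectTransparency.types false
set_option maxHeartbeats 400000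

universe u

open CategoryTheory CategoryTheory.Limits AlgebraicGeometry CategoryTheory.Pretriangulated

noncomputable section

namespace Groth.Agent.H6RP

open Groth.Agent

attribute [local instance] HasDerivedCategory.standard

variable {X : Scheme.{u}}

theorem quasiIso_of_isIso_Q {K L : CochainComplex X.Modules ℤ} (f : K ⟶ L)
    (h : IsIso (DerivedCategory.Q.map f)) : QuasiIso f :=
  (DerivedCategory.isIso_Q_map_iff_quasiIso (φ := f)).1 h

/-- A roof for a shifted morphism gives a roof. -/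
theorem unshift_roof {E F : CochainComplex X.Modules ℤ} (α : DCoh.toD X E ⟶ DCoh.toD X F)
    (G' : CochainComplex X.Modules ℤ) (hG' : DCoh.IsStrictlyPerfect G')
    (g' : G' ⟶ E⟦(1 : ℤ)⟧) (h' : G' ⟶ F⟦(1 : ℤ)⟧) (hg : IsIso (DerivedCategory.Q.map g'))
    (hc : DerivedCategory.Q.map g' ≫ (DerivedCategory.Q.commShiftIso (1 : ℤ)).hom.app E ≫ α⟦(1 : ℤ)⟧' =
      DerivedCategory.Q.map h' ≫ (DerivedCategory.Q.commShiftIso (1 : ℤ)).hom.app F) :
    ∃ (G : CochainComplex X.Modules ℤ) (g : G ⟶ E) (h : G ⟶ F), DCoh.IsStrictlyPerfect G ∧ QuasiIso g ∧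
      DerivedCategory.Q.map g ≫ α = DerivedCategory.Q.map h := by
  let c := DerivedCategory.Q.commShiftIso (C := CochainComplex X.Modules ℤ) (1 : ℤ)
  let d : (G'⟦(-1 : ℤ)⟧)⟦(1 : ℤ)⟧ ≅ G' :=
    (shiftFunctorCompIsoId (CochainComplex X.Modules ℤ) (-1 : ℤ) 1 (by omega)).app G'
  obtain ⟨g, hg₁⟩ := (shiftFunctor (CochainComplex X.Modules ℤ) (1 : ℤ)).map_surjective (d.hom ≫ g')
  obtain ⟨h, hh₁⟩ := (shiftFunctor (CochainComplex X.Modules ℤ) (1 : ℤ)).map_surjective (d.hom ≫ h')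
  have ng : c.hom.app _ ≫ (DerivedCategory.Q.map g)⟦(1 : ℤ)⟧' =
      DerivedCategory.Q.map (d.hom ≫ g') ≫ c.hom.app E := by
    rw [← hg₁]
    exact (c.hom.naturality g).symm
  have nh : c.hom.app _ ≫ (DerivedCategory.Q.map h)⟦(1 : ℤ)⟧' =
      DerivedCategory.Q.map (d.hom ≫ h') ≫ c.hom.app F := by
    rw [← hh₁]
    exact (c.hom.naturality h).symm
  refine ⟨G'⟦(-1 : ℤ)⟧, g, h, KFlatLib.isStrictlyPerfect_shift hG' _, quasiIso_of_isIso_Q g ?_,
    (shiftFunctor (DCoh.D X) (1 : ℤ)).map_injective ?_⟩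
  · haveI := hg
    haveI : IsIso ((DerivedCategory.Q.map g)⟦(1 : ℤ)⟧') := by
      rw [show (DerivedCategory.Q.map g)⟦(1 : ℤ)⟧' =
        inv (c.hom.app _) ≫ DerivedCategory.Q.map (d.hom ≫ g') ≫ c.hom.app E by
          rw [← ng, IsIso.inv_hom_id_assoc]]
      haveI : IsIso (DerivedCategory.Q.map (d.hom ≫ g')) := by rw [Functor.map_comp]; infer_instance
      exact IsIso.comp_isIso' inferInstance (IsIso.comp_isIso' this inferInstance)
    exact isIso_of_reflects_iso _ (shiftFunctor (DCoh.D X) (1 : ℤ))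
  · rw [← cancel_epi (c.hom.app (G'⟦(-1 : ℤ)⟧)), Functor.map_comp, reassoc_of% ng, nh, Functor.map_comp,
      Functor.map_comp, Category.assoc, Category.assoc, hc]

/-- Morphisms between strictly perfect complexes are represented by roofs. -/
theorem exists_roof [CompactSpace X] [QuasiSeparatedSpace X] (hX : PerfAux.HasResolutionProperty X)
    (E F : CochainComplex X.Modules ℤ) (hE : DCoh.IsStrictlyPerfect E) (hF : DCoh.IsStrictlyPerfect F)
    (α : DCoh.toD X E ⟶ DCoh.toD X F) :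
    ∃ (G : CochainComplex X.Modules ℤ) (g : G ⟶ E) (h : G ⟶ F), DCoh.IsStrictlyPerfect G ∧ QuasiIso g ∧
      DerivedCategory.Q.map g ≫ α = DerivedCategory.Q.map h := by
  obtain ⟨aE, bE, hEv⟩ := hE.1
  obtain ⟨aF, bF, hFv⟩ := hF.1
  haveI : F.IsStrictlyGE aF := by
    rw [CochainComplex.isStrictlyGE_iff]
    exact fun i hi => hFv i (Or.inl hi)
  have hEq : ∀ i, Coh.IsQCoh (E.X i) := fun i => QCoh.isQCoh_of_isFinLocFree (hE.2 i)
  have hFq : ∀ i, Coh.IsQCoh (F.X i) := fun i => QCoh.isQCoh_of_isFinLocFree (hF.2 i)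
  obtain ⟨J, ι, hJge, hJ, hι⟩ := exists_qis_injQ F aF hFq
  haveI := hJge
  haveI : IsIso (DerivedCategory.Q.map ι) := KFlatLib.isIso_Q_map _ hι
  obtain ⟨β, hβ⟩ := exists_map_of_bounded (S1009.result X hX) J aF hJ bE (bE + 1 - aE).toNat E hEq
    (fun i hi => hEv i (by omega)) (α ≫ DerivedCategory.Q.map ι)
  let ψ : E ⊞ F ⟶ J := biprod.desc β (-ι)
  let C := CochainComplex.mappingCone ψ
  let p : C ⟶ (E ⊞ F)⟦(1 : ℤ)⟧ := (CochainComplex.mappingCone.triangle ψ).mor₃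
  let c := DerivedCategory.Q.commShiftIso (C := CochainComplex X.Modules ℤ) (1 : ℤ)
  let P : DerivedCategory.Q.obj C ⟶ (DerivedCategory.Q.obj (E ⊞ F))⟦(1 : ℤ)⟧ :=
    DerivedCategory.Q.map p ≫ c.hom.app (E ⊞ F)
  let f₁ : E ⊞ F ⟶ E := biprod.fst
  let f₂ : E ⊞ F ⟶ F := biprod.snd
  let j₁ : E ⟶ E ⊞ F := biprod.inl
  let j₂ : F ⟶ E ⊞ F := biprod.inr
  let gE : C ⟶ E⟦(1 : ℤ)⟧ := p ≫ f₁⟦(1 : ℤ)⟧'
  let hF' : C ⟶ F⟦(1 : ℤ)⟧ := p ≫ f₂⟦(1 : ℤ)⟧'
  have hT := DerivedCategory.mappingCone_triangle_distinguished ψ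
  have h31 : P ≫ (DerivedCategory.Q.map ψ)⟦(1 : ℤ)⟧' = 0 := comp_distTriang_mor_zero₃₁ _ hT
  have nE : DerivedCategory.Q.map gE ≫ c.hom.app E = P ≫ (DerivedCategory.Q.map f₁)⟦(1 : ℤ)⟧' := by
    simp only [gE, P, Functor.map_comp, Category.assoc]
    exact congrArg _ (c.hom.naturality f₁)
  have nF : DerivedCategory.Q.map hF' ≫ c.hom.app F = P ≫ (DerivedCategory.Q.map f₂)⟦(1 : ℤ)⟧' := by
    simp only [hF', P, Functor.map_comp, Category.assoc]
    exact congrArg _ (c.hom.naturality f₂)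
  have hψ : DerivedCategory.Q.map ψ =
      (DerivedCategory.Q.map f₁ ≫ α - DerivedCategory.Q.map f₂) ≫ DerivedCategory.Q.map ι := by
    have h0 : ψ = f₁ ≫ β - f₂ ≫ ι := biprod.hom_ext' _ _ (by simp [ψ, f₁, f₂]) (by simp [ψ, f₁, f₂])
    rw [h0, Functor.map_sub, Functor.map_comp, Functor.map_comp, hβ, Preadditive.sub_comp, Category.assoc]
  have hrel : P ≫ (DerivedCategory.Q.map f₁)⟦(1 : ℤ)⟧' ≫ α⟦(1 : ℤ)⟧' =
      P ≫ (DerivedCategory.Q.map f₂)⟦(1 : ℤ)⟧' := by
    rw [hψ, Functor.map_comp, ← Category.assoc, Preadditive.IsIso.comp_right_eq_zero, Functor.map_sub,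
      Preadditive.comp_sub, sub_eq_zero, Functor.map_comp] at h31
    exact h31
  have hepi : Epi (DerivedCategory.Q.map ψ) := by
    refine SplitEpi.epi ⟨- inv (DerivedCategory.Q.map ι) ≫ DerivedCategory.Q.map j₂, ?_⟩
    simp [← Functor.map_comp, ψ, j₂]
  have hinr : DerivedCategory.Q.map (CochainComplex.mappingCone.inr ψ) = 0 := by
    rw [← cancel_epi (DerivedCategory.Q.map ψ), comp_zero]
    exact comp_distTriang_mor_zero₁₂ _ hT
  haveI hP : Mono P := Preadditive.mono_of_cancel_zero _ fun {A} x hx => by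
    obtain ⟨z, rfl⟩ := Triangle.coyoneda_exact₃ _ hT x hx
    exact (congrArg (z ≫ ·) hinr).trans comp_zero
  haveI : Mono (P ≫ (DerivedCategory.Q.map f₁)⟦(1 : ℤ)⟧') := Preadditive.mono_of_cancel_zero _
    fun {A} x hx => by
      rw [← Category.assoc] at hx
      have h2 : (x ≫ P) ≫ (DerivedCategory.Q.map f₂)⟦(1 : ℤ)⟧' = 0 := by
        rw [Category.assoc, ← hrel, ← Category.assoc, ← Category.assoc, hx, zero_comp]
      have h0 : (𝟙 (DerivedCategory.Q.obj (E ⊞ F))) =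
          DerivedCategory.Q.map f₁ ≫ DerivedCategory.Q.map j₁ +
            DerivedCategory.Q.map f₂ ≫ DerivedCategory.Q.map j₂ := by
        rw [← Functor.map_comp, ← Functor.map_comp, ← Functor.map_add, biprod.total,
          CategoryTheory.Functor.map_id]
      refine zero_of_comp_mono P ((Category.comp_id (x ≫ P)).symm.trans ?_)
      rw [← (shiftFunctor (DCoh.D X) (1 : ℤ)).map_id, h0, Functor.map_add, Functor.map_comp,
        Functor.map_comp, Preadditive.comp_add]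
      exact (congrArg₂ (· + ·) ((Category.assoc _ _ _).symm.trans ((congrArg (· ≫ _) hx).trans zero_comp))
        ((Category.assoc _ _ _).symm.trans ((congrArg (· ≫ _) h2).trans zero_comp))).trans (add_zero _)
  obtain ⟨z, hz⟩ := Triangle.coyoneda_exact₁ _ hT
    ((DerivedCategory.Q.map j₁ + α ≫ DerivedCategory.Q.map j₂)⟦(1 : ℤ)⟧') (by
      refine ((shiftFunctor (DCoh.D X) (1 : ℤ)).map_comp _ (DerivedCategory.Q.map ψ)).symm.trans ?_
      have h00 : (DerivedCategory.Q.map j₁ + α ≫ DerivedCategory.Q.map j₂) ≫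
          (DerivedCategory.Q.map f₁ ≫ α - DerivedCategory.Q.map f₂) = 0 := by
        simp [j₁, j₂, f₁, f₂, ← Functor.map_comp_assoc, ← Functor.map_comp]
      rw [hψ, ← Category.assoc, h00, zero_comp]
      exact Functor.map_zero _ _ _)
  have hz' : (DerivedCategory.Q.map j₁ + α ≫ DerivedCategory.Q.map j₂)⟦(1 : ℤ)⟧' = z ≫ P := hz
  have hsec : z ≫ P ≫ (DerivedCategory.Q.map f₁)⟦(1 : ℤ)⟧' = 𝟙 _ := by
    rw [← Category.assoc, ← hz', ← Functor.map_comp, Preadditive.add_comp, Category.assoc,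
      ← Functor.map_comp, ← Functor.map_comp]
    simp [j₁, j₂, f₁]
  haveI : IsSplitEpi (P ≫ (DerivedCategory.Q.map f₁)⟦(1 : ℤ)⟧') := ⟨⟨⟨z, hsec⟩⟩⟩
  haveI : IsIso (P ≫ (DerivedCategory.Q.map f₁)⟦(1 : ℤ)⟧') := isIso_of_mono_of_isSplitEpi _
  haveI hgE : IsIso (DerivedCategory.Q.map gE) := by
    rw [show DerivedCategory.Q.map gE = (P ≫ (DerivedCategory.Q.map f₁)⟦(1 : ℤ)⟧') ≫ inv (c.hom.app E) by
      rw [← nE, Category.assoc, IsIso.hom_inv_id, Category.comp_id]]
    infer_instance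
  have hCq : ∀ i, Coh.IsQCoh (C.X i) := fun i => by
    haveI := HomologicalComplex.HasHomotopyCofiber.hasBinaryBiproduct ψ i (i + 1) rfl
    have hsum : ∀ M N : X.Modules, QCohCat.isQCoh X M → QCohCat.isQCoh X N → QCohCat.isQCoh X (M ⨯ N) :=
      fun M N hM hN => (QCohCat.isQCoh X).prop_prod M N hM hN
    refine (QCoh.isQCoh_iff_iso (HomologicalComplex.homotopyCofiber.XIsoBiprod ψ i (i + 1) rfl)).2
      (PCohLib.prop_biprod (P := QCohCat.isQCoh X) hsum ?_ (hJ.isQCoh i))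
    exact (QCoh.isQCoh_iff_iso (HomologicalComplex.biprodXIso E F (i + 1))).2
      (PCohLib.prop_biprod (P := QCohCat.isQCoh X) hsum (hEq _) (hFq _))
  have hCb : ∀ i, i < min (aE - 1) (aF - 1) → IsZero (C.X i) := fun i hi => by
    refine (CochainComplex.mappingCone.isZero_X_iff ψ i).mpr ⟨?_, J.isZero_of_isStrictlyGE aF i (by omega)⟩
    refine IsZero.of_iso ?_ (HomologicalComplex.biprodXIso E F (i + 1))
    rw [IsZero.iff_id_eq_zero]
    exact biprod.hom_ext _ _ ((hEv _ (by omega)).eq_of_tgt _ _) ((hFv _ (by omega)).eq_of_tgt _ _)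
  have hCp : DCoh.IsPerfect (DCoh.toD X C) := DQGen.isPerfect_of_iso (asIso (DerivedCategory.Q.map gE)).symm
    (isPerfect_of_isStrictlyPerfect (KFlatLib.isStrictlyPerfect_shift hE 1))
  obtain ⟨G', φ, hG', hφ⟩ := exists_strictlyPerfect_qis hX C ⟨_, hCb⟩ hCq hCp
  haveI : IsIso (DerivedCategory.Q.map φ) := KFlatLib.isIso_Q_map _ hφ
  refine unshift_roof α G' hG' (φ ≫ gE) (φ ≫ hF') (by rw [Functor.map_comp]; infer_instance) ?_
  show _ ≫ c.hom.app E ≫ _ = _ ≫ c.hom.app F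
  rw [DerivedCategory.Q.map_comp φ gE, DerivedCategory.Q.map_comp φ hF', Category.assoc, Category.assoc,
    reassoc_of% nE, nF, hrel]

/-- Maps with the same image in the derived category become homotopic on a strictly perfect resolution. -/
theorem exists_homotopy [CompactSpace X] [QuasiSeparatedSpace X] (hX : PerfAux.HasResolutionProperty X)
    (E F : CochainComplex X.Modules ℤ) (hE : DCoh.IsStrictlyPerfect E) (hF : DCoh.IsStrictlyPerfect F)
    (α β : E ⟶ F) (hαβ : DerivedCategory.Q.map α = DerivedCategory.Q.map β) :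
    ∃ (G : CochainComplex X.Modules ℤ) (γ : G ⟶ E), DCoh.IsStrictlyPerfect G ∧ QuasiIso γ ∧
      Nonempty (Homotopy (γ ≫ α) (γ ≫ β)) := by
  let δ := α - β
  let C := CochainComplex.mappingCone δ
  let p : C ⟶ E⟦(1 : ℤ)⟧ := (CochainComplex.mappingCone.triangle δ).mor₃
  let c := DerivedCategory.Q.commShiftIso (C := CochainComplex X.Modules ℤ) (1 : ℤ)
  have hδ : DerivedCategory.Q.map δ = 0 := by rw [Functor.map_sub, hαβ, sub_self]
  obtain ⟨s, hs⟩ := Triangle.coyoneda_exact₁ _ (DerivedCategory.mappingCone_triangle_distinguished δ)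
    (𝟙 ((DerivedCategory.Q.obj E)⟦(1 : ℤ)⟧)) (by
      show 𝟙 _ ≫ (DerivedCategory.Q.map δ)⟦(1 : ℤ)⟧' = 0
      rw [hδ, Functor.map_zero, comp_zero])
  have hs' : 𝟙 ((DerivedCategory.Q.obj E)⟦(1 : ℤ)⟧) = s ≫ DerivedCategory.Q.map p ≫ c.hom.app E := hs
  obtain ⟨G', g, h, hG', hg, hgh⟩ := exists_roof hX (E⟦(1 : ℤ)⟧) C
    (KFlatLib.isStrictlyPerfect_shift hE 1) (isStrictlyPerfect_cone δ hE hF) (c.hom.app E ≫ s)
  haveI : IsIso (DerivedCategory.Q.map g) := KFlatLib.isIso_Q_map _ hg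
  have hps : c.hom.app E ≫ s ≫ DerivedCategory.Q.map p = 𝟙 _ := by
    have h2 : (c.hom.app E ≫ s ≫ DerivedCategory.Q.map p) ≫ c.hom.app E = c.hom.app E := by
      rw [Category.assoc, Category.assoc, ← hs']
      exact Category.comp_id _
    exact (cancel_mono (c.hom.app E)).1 (h2.trans (Category.id_comp _).symm)
  let g' : G' ⟶ E⟦(1 : ℤ)⟧ := h ≫ p
  have hg' : IsIso (DerivedCategory.Q.map g') := by
    rw [show DerivedCategory.Q.map g' = DerivedCategory.Q.map g by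
      rw [Functor.map_comp, ← hgh, Category.assoc, Category.assoc, hps]
      exact Category.comp_id _]
    infer_instance
  let d : (G'⟦(-1 : ℤ)⟧)⟦(1 : ℤ)⟧ ≅ G' :=
    (shiftFunctorCompIsoId (CochainComplex X.Modules ℤ) (-1 : ℤ) 1 (by omega)).app G'
  obtain ⟨γ, hγ₁⟩ := (shiftFunctor (CochainComplex X.Modules ℤ) (1 : ℤ)).map_surjective (d.hom ≫ g')
  let π := HomotopyCategory.quotient X.Modules (ComplexShape.up ℤ)
  let e := π.commShiftIso (1 : ℤ)
  have h31 : (π.map p ≫ e.hom.app E) ≫ (π.map δ)⟦(1 : ℤ)⟧' = 0 :=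
    comp_distTriang_mor_zero₃₁ _ (HomotopyCategory.mappingCone_triangleh_distinguished δ)
  have hzero : π.map (γ ≫ δ) = 0 := by
    refine (shiftFunctor _ (1 : ℤ)).map_injective ?_
    rw [Functor.map_zero, ← cancel_epi (e.hom.app (G'⟦(-1 : ℤ)⟧)), comp_zero, Functor.map_comp, Functor.map_comp]
    have n1 : e.hom.app (G'⟦(-1 : ℤ)⟧) ≫ (π.map γ)⟦(1 : ℤ)⟧' = π.map (d.hom ≫ g') ≫ e.hom.app E := by
      rw [← hγ₁]
      exact (e.hom.naturality γ).symm
    rw [reassoc_of% n1, Functor.map_comp, Category.assoc, Functor.map_comp, Category.assoc,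
      ← Category.assoc (π.map p), h31, comp_zero, comp_zero]
  have hγ : QuasiIso γ := by
    refine quasiIso_of_isIso_Q γ ?_
    haveI := hg'
    haveI : IsIso ((DerivedCategory.Q.map γ)⟦(1 : ℤ)⟧') := by
      rw [show (DerivedCategory.Q.map γ)⟦(1 : ℤ)⟧' =
        inv (c.hom.app _) ≫ DerivedCategory.Q.map (d.hom ≫ g') ≫ c.hom.app E by
          rw [← hγ₁, IsIso.eq_inv_comp]
          exact (c.hom.naturality γ).symm]
      haveI : IsIso (DerivedCategory.Q.map (d.hom ≫ g')) := by rw [Functor.map_comp]; infer_instance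
      exact IsIso.comp_isIso' inferInstance (IsIso.comp_isIso' this inferInstance)
    exact isIso_of_reflects_iso _ (shiftFunctor (DCoh.D X) (1 : ℤ))
  exact ⟨G'⟦(-1 : ℤ)⟧, γ, KFlatLib.isStrictlyPerfect_shift hG' _, hγ,
    ⟨HomotopyCategory.homotopyOfEq _ _ (sub_eq_zero.1 (by
      rw [← Functor.map_sub, ← Preadditive.comp_sub]; exact hzero))⟩⟩

end Groth.Agent.H6RP
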